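import Groth.Agent.PicTheta.Points
import Groth.Agent.Nakai.FibreDeg

/-!
The divisor of a symmetric family of classes `L - t` and its slice at a point are reduced where the fibres are.
-/

set_option autoImplicit false
set_option backward.isDefEq.respectTransparency false
set_option backward.isDefEq.respectTransparency.types false
set_option linter.style.haveILetI false
set_option linter.unusedSectionVars false
set_option maxHeartbeats 1600000

universe u

open CategoryTheory CategoryTheory.Limits AlgebraicGeometry TopologicalSpace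
open PicF
open Groth.Agent.W7Cube (pull pull_pull pull_cls)
open Groth.Agent.PicCurve

attribute [local instance] Groth.Agent.W7Cube.law

noncomputable section

namespace Groth.Agent.PicTheta

/-- A scheme smooth over a field is reduced. -/
theorem isReduced_of_smooth_field {k : Type u} [Field k] {Z : Scheme.{u}} (q : Z ⟶ Spec (CommRingCat.of k)) [Smooth q] :
    IsReduced Z :=
  haveI := Rigid.geometricallyReduced_of_smooth q
  GeometricallyReduced.isReduced_of_flat_of_isLocallyNoetherian q

/-- A radical ideal is determined by its support. -/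
theorem eq_of_support_eq {Z : Scheme.{u}} {I J : Z.IdealSheafData} [IsReduced I.subscheme] [IsReduced J.subscheme]
    (h : (I.support : Set Z) = J.support) : I = J := by
  have hI := Nakai.ker_eq_vanishingIdeal I.subschemeι
  have hJ := Nakai.ker_eq_vanishingIdeal J.subschemeι
  rw [Scheme.IdealSheafData.ker_subschemeι] at hI hJ
  rw [hI, hJ, SetLike.coe_injective h]

/-- Closed sets over an algebraically closed field with the same rational points are equal. -/
theorem eq_of_sect {k : Type u} [Field k] [IsAlgClosed k] {Z : Scheme.{u}} (p : Z ⟶ Spec (CommRingCat.of k))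
    [LocallyOfFiniteType p] {A B : Set Z} (hA : IsClosed A) (hB : IsClosed B)
    (h : ∀ z : Spec (CommRingCat.of k) ⟶ Z, z ≫ p = 𝟙 _ →
      (z (IsLocalRing.closedPoint k) ∈ A ↔ z (IsLocalRing.closedPoint k) ∈ B)) : A = B := by
  haveI : JacobsonSpace Z := LocallyOfFiniteType.jacobsonSpace p
  rw [← closure_inter_closedPoints hA, ← closure_inter_closedPoints hB]
  congr 1
  ext y
  refine and_congr_left fun hy => ?_
  have := h (pointOfClosedPoint p y hy) (pointOfClosedPoint_comp p y hy)
  rwa [pointOfClosedPoint_apply] at this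

variable {k : Type u} [Field k] [IsAlgClosed k] {X : Scheme.{u}} [X.Over (Spec (CommRingCat.of k))]
  [IsProper (X ↘ Spec (CommRingCat.of k))] [Smooth (X ↘ Spec (CommRingCat.of k))]
  [GeometricallyConnected (X ↘ Spec (CommRingCat.of k))] [SmoothOfRelativeDimension 1 (X ↘ Spec (CommRingCat.of k))]
  [IsIntegral X]

local notation "fX" => (X ↘ Spec (CommRingCat.of k))

/-- An open of the curve as a base. -/
abbrev TT (U : X.Opens) : Over (Spec (CommRingCat.of k)) := Over.mk (U.ι ≫ (X ↘ Spec (CommRingCat.of k)))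

/-- The point of the curve under a rational point of the open. -/
def ptOf {U : X.Opens} (t : onePt k ⟶ TT U) : {τ : Spec (CommRingCat.of k) ⟶ X // τ ≫ (X ↘ Spec (CommRingCat.of k)) = 𝟙 _} :=
  ⟨t.left ≫ U.ι, (Category.assoc _ _ _).trans (Over.w t)⟩

variable (hdim : topologicalKrullDim X = 1) {g : ℕ} {U : X.Opens} (D : HilbD.Obj (X ↘ Spec (CommRingCat.of k)) g (TT U))

include hdim in
/-- Smoothness along a fibre with distinct points. -/
theorem mem_smoothLocus_fibre (hg : Curv2.genus k X = g) (hg1 : 0 < g) (t : onePt k ⟶ TT U)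
    (h0 : hC k (cT (divCl D.1 (effCartier_obj fX (TT U) D)) t) 0 = 1)
    (h1 : hC k (cT (divCl D.1 (effCartier_obj fX (TT U) D)) t) 1 = 0)
    (τ : Fin g → {τ : Spec (CommRingCat.of k) ⟶ X // τ ≫ fX = 𝟙 _}) (hinj : Function.Injective τ)
    (hτ : cT (divCl D.1 (effCartier_obj fX (TT U) D)) t = ∏ i, delta k (τ i) hdim)
    [LocallyOfFinitePresentation (D.1.subschemeι ≫ XTproj fX (TT U))]
    (y : D.1.subscheme) (hy : (D.1.subschemeι ≫ XTproj fX (TT U)) y = t.left (IsLocalRing.closedPoint k)) :
    y ∈ (D.1.subschemeι ≫ XTproj fX (TT U)).smoothLocus := by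
  let q := D.1.subschemeι ≫ XTproj fX (TT U)
  obtain ⟨⟨hfin, hflat, -⟩, hdeg⟩ := D.2
  haveI : IsFinite q := hfin
  haveI : Flat q := hflat
  let m := XTmap fX t
  have sq0 := ((IsPullback.of_hasPullback m D.1.subschemeι).flip).paste_vert (PicFam.isPullback_XTmap fX t)
  have hmem : ∀ i, pairPt (τ i) t (IsLocalRing.closedPoint k) ∈ D.1.support := fun i => by
    rw [mem_support_iff hdim D hg hg1 t h0 h1]
    obtain ⟨n, rfl⟩ : ∃ n, g = n + 1 := ⟨g - 1, by omega⟩
    rw [hτ, Fin.prod_univ_succAbove _ i, mul_comm (delta k (τ i) hdim), mul_inv_cancel_right]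
    exact one_le_hC_prod k hdim _
  have hpre : ∀ i, ∃ z : (pullback m D.1.subschemeι : Scheme.{u}),
      pullback.fst m D.1.subschemeι z =
        HilbOne.sect fX (onePt k) (constPt (τ i) (onePt k)).1 (constPt (τ i) (onePt k)).2 (IsLocalRing.closedPoint k) :=
    fun i => by
    obtain ⟨e, he⟩ : pairPt (τ i) t (IsLocalRing.closedPoint k) ∈ Set.range D.1.subschemeι := by
      rw [Scheme.IdealSheafData.range_subschemeι]; exact hmem i
    obtain ⟨z, hz, -⟩ := Scheme.Pullback.exists_preimage_pullback (f := m) (g := D.1.subschemeι)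
      (HilbOne.sect fX (onePt k) (constPt (τ i) (onePt k)).1 (constPt (τ i) (onePt k)).2 (IsLocalRing.closedPoint k)) e he.symm
    exact ⟨z, hz⟩
  choose z hz using hpre
  obtain ⟨x, hx, -⟩ := Scheme.exists_preimage_of_isPullback sq0 y (IsLocalRing.closedPoint k : (onePt k).left) hy
  rw [← hx]
  refine mem_smoothLocus_of_points q t.left sq0 hdeg z (fun i l hil => hinj (Subtype.ext
    (ext_of_apply_closedPoint_eq fX (τ i).2 (τ l).2 ?_))) x
  have h := congrArg (fun p => pullback.fst fX (onePt k).hom p) ((hz i).symm.trans ((congrArg _ hil).trans (hz l)))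
  simp only [← Scheme.Hom.comp_apply, HilbOne.sect_fst] at h
  rwa [show (onePt k).hom ≫ (τ i).1 = (τ i).1 from Category.id_comp _,
    show (onePt k).hom ≫ (τ l).1 = (τ l).1 from Category.id_comp _] at h

include hdim in
/-- **The slice at a point of the divisor of a family `L - t` is reduced near reduced fibres.** -/
theorem slice_isReduced (hg : Curv2.genus k X = g) (hg1 : 0 < g) (Lc : PicLoc.PicSet X)
    (hgood : ∀ t : onePt k ⟶ TT U, hC k (cT (divCl D.1 (effCartier_obj fX (TT U) D)) t) 0 = 1 ∧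
      hC k (cT (divCl D.1 (effCartier_obj fX (TT U) D)) t) 1 = 0)
    (hcl : ∀ t : onePt k ⟶ TT U, cT (divCl D.1 (effCartier_obj fX (TT U) D)) t = Lc * (delta k (ptOf t) hdim)⁻¹)
    (R t₀ : onePt k ⟶ TT U)
    (hR : ∃ τ : Fin g → {τ : Spec (CommRingCat.of k) ⟶ X // τ ≫ fX = 𝟙 _}, Function.Injective τ ∧
      cT (divCl D.1 (effCartier_obj fX (TT U) D)) R = ∏ i, delta k (τ i) hdim)
    (ht₀ : ∃ τ : Fin g → {τ : Spec (CommRingCat.of k) ⟶ X // τ ≫ fX = 𝟙 _}, Function.Injective τ ∧
      cT (divCl D.1 (effCartier_obj fX (TT U) D)) t₀ = ∏ i, delta k (τ i) hdim) :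
    ∃ W : (U : Scheme.{u}).Opens, t₀.left (IsLocalRing.closedPoint k) ∈ W ∧
      IsReduced ((D.1.comap (HilbOne.sect fX (TT U) (constPt (ptOf R) (TT U)).1 (constPt (ptOf R) (TT U)).2)).comap
        W.ι).subscheme := by
  let q := D.1.subschemeι ≫ XTproj fX (TT U)
  obtain ⟨⟨hfin, hflat, hlfp⟩, hdeg⟩ := D.2
  haveI : IsFinite q := hfin
  haveI : LocallyOfFinitePresentation q := hlfp
  let bad : Set (U : Scheme.{u}) := q '' (q.smoothLocus : Set D.1.subscheme)ᶜ
  let W : (U : Scheme.{u}).Opens := ⟨badᶜ, (q.isClosedMap _ q.smoothLocus.isOpen.isClosed_compl).isOpen_compl⟩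
  have hWmem : ∀ t : onePt k ⟶ TT U, (∃ τ : Fin g → {τ : Spec (CommRingCat.of k) ⟶ X // τ ≫ fX = 𝟙 _},
      Function.Injective τ ∧ cT (divCl D.1 (effCartier_obj fX (TT U) D)) t = ∏ i, delta k (τ i) hdim) →
      t.left (IsLocalRing.closedPoint k) ∈ W := fun t ⟨τ, hinj, hτ⟩ => by
    rintro ⟨y, hy, hyt⟩
    exact hy (mem_smoothLocus_fibre hdim D hg hg1 t (hgood t).1 (hgood t).2 τ hinj hτ y hyt)
  refine ⟨W, hWmem t₀ ht₀, ?_⟩
  let a : (W : Scheme.{u}) ⟶ Spec (CommRingCat.of k) := W.ι ≫ U.ι ≫ fX
  let P := pullback a a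
  let ω : P ⟶ XT fX (TT U) := pullback.map a a fX (U.ι ≫ fX) (W.ι ≫ U.ι) W.ι (𝟙 _)
    (by simp [a]) (by simp [a])
  haveI : IsOpenImmersion ω := inferInstance
  let G := D.1.comap ω
  let gE : G.subscheme ⟶ D.1.subscheme := (D.1.comapIso ω).hom ≫ pullback.snd ω D.1.subschemeι
  have hgE : gE ≫ D.1.subschemeι = G.subschemeι ≫ ω := by
    rw [Category.assoc, ← pullback.condition, ← Category.assoc, Scheme.IdealSheafData.comapIso_hom_fst]
  haveI : IsOpenImmersion gE := inferInstance
  have hω2 : ω ≫ XTproj fX (TT U) = pullback.snd a a ≫ W.ι := pullback.lift_snd _ _ _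
  have hω1 : ω ≫ pullback.fst fX (TT U).hom = pullback.fst a a ≫ W.ι ≫ U.ι := pullback.lift_fst _ _ _
  have hgEW : gE ≫ q = (G.subschemeι ≫ pullback.snd a a) ≫ W.ι := by
    show gE ≫ D.1.subschemeι ≫ XTproj fX (TT U) = _
    rw [← Category.assoc, hgE, Category.assoc, hω2, Category.assoc]
  -- smoothness of the second projection
  haveI hs2 : Smooth (G.subschemeι ≫ pullback.snd a a) := by
    have hs : Smooth (gE ≫ q) := by
      rw [← Scheme.Hom.smoothLocus_eq_top_iff, ← Scheme.Hom.preimage_smoothLocus_eq gE q, eq_top_iff]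
      intro e _
      show gE e ∈ q.smoothLocus
      by_contra hne
      have h2 : (gE ≫ q) e ∈ W := by rw [hgEW]; exact ((G.subschemeι ≫ pullback.snd a a) e).2
      exact h2 ⟨_, hne, rfl⟩
    rw [hgEW] at hs
    have sqm : IsPullback (𝟙 G.subscheme) (G.subschemeι ≫ pullback.snd a a)
        ((G.subschemeι ≫ pullback.snd a a) ≫ W.ι) W.ι :=
      IsPullback.of_horiz_isIso_mono ⟨Category.id_comp _⟩
    exact MorphismProperty.of_isPullback sqm hs
  haveI : LocallyOfFiniteType a := inferInstance
  haveI : Smooth a := inferInstance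
  haveI hGred : IsReduced G.subscheme := isReduced_of_smooth_field ((G.subschemeι ≫ pullback.snd a a) ≫ a)
  -- symmetry
  let τw : P ⟶ P := (pullbackSymmetry a a).hom
  haveI : IsIso τw := inferInstance
  have hτ : G.comap τw = G := by
    haveI : IsReduced (G.comap τw).subscheme :=
      isReduced_of_isOpenImmersion ((G.comapIso τw).hom ≫ pullback.snd τw G.subschemeι)
    refine eq_of_support_eq (eq_of_sect (pullback.fst a a ≫ a) (G.comap τw).support.isClosed G.support.isClosed
      fun z hz => ?_)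
    let x : onePt k ⟶ TT U := Over.homMk (z ≫ pullback.fst a a ≫ W.ι) (by
      simpa [a, Category.assoc] using hz)
    let t : onePt k ⟶ TT U := Over.homMk (z ≫ pullback.snd a a ≫ W.ι) (by
      show (z ≫ pullback.snd a a ≫ W.ι) ≫ U.ι ≫ fX = 𝟙 _
      rw [← hz, pullback.condition]
      simp [a, Category.assoc])
    have e1 : z ≫ ω = pairPt (ptOf x) t := pullback.hom_ext
      (by rw [pairPt_fst, Category.assoc, hω1]; simp [x, ptOf])
      (by rw [show pullback.snd fX (TT U).hom = XTproj fX (TT U) from rfl, pairPt_snd, Category.assoc, hω2]; rfl)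
    have e2 : (z ≫ τw) ≫ ω = pairPt (ptOf t) x := pullback.hom_ext
      (by rw [pairPt_fst, Category.assoc, hω1]; simp [τw, t, ptOf])
      (by rw [show pullback.snd fX (TT U).hom = XTproj fX (TT U) from rfl, pairPt_snd, Category.assoc, hω2]
          simp [τw, x])
    have hmem : ∀ (w : Spec (CommRingCat.of k) ⟶ P),
        w (IsLocalRing.closedPoint k) ∈ G.support ↔ (w ≫ ω) (IsLocalRing.closedPoint k) ∈ D.1.support := fun w => by
      rw [Scheme.IdealSheafData.support_comap]; rfl
    rw [Scheme.IdealSheafData.support_comap]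
    show τw (z (IsLocalRing.closedPoint k)) ∈ G.support ↔ _
    rw [← Scheme.Hom.comp_apply]
    refine (hmem (z ≫ τw)).trans (Iff.trans ?_ (hmem z).symm)
    rw [e1, e2, mem_support_iff hdim D hg hg1 x (hgood x).1 (hgood x).2,
      mem_support_iff hdim D hg hg1 t (hgood t).1 (hgood t).2, hcl, hcl, mul_right_comm]
  let σG : G.subscheme ⟶ G.subscheme :=
    eqToHom (congrArg Scheme.IdealSheafData.subscheme hτ.symm) ≫ (G.comapIso τw).hom ≫ pullback.snd τw G.subschemeι
  haveI : IsIso σG := inferInstance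
  have hσG : σG ≫ G.subschemeι = G.subschemeι ≫ τw := by
    simp only [σG, Category.assoc, ← pullback.condition]
    rw [Scheme.IdealSheafData.comapIso_hom_fst_assoc]
    have : ∀ {I J : P.IdealSheafData} (h : I = J),
        eqToHom (congrArg Scheme.IdealSheafData.subscheme h) ≫ J.subschemeι = I.subschemeι := by
      rintro I _ rfl; simp
    rw [← Category.assoc, this hτ.symm]
  haveI hs1 : Smooth (G.subschemeι ≫ pullback.fst a a) := by
    have e : G.subschemeι ≫ pullback.fst a a = σG ≫ G.subschemeι ≫ pullback.snd a a := by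
      rw [← Category.assoc σG, hσG, Category.assoc, pullbackSymmetry_hom_comp_snd]
    rw [e]
    infer_instance
  -- the slice
  have hRW := hWmem R hR
  have hRr : Set.range R.left ⊆ Set.range W.ι := by
    rintro _ ⟨p, rfl⟩
    haveI : Subsingleton ↥(Spec (CommRingCat.of k)) := inferInstanceAs (Subsingleton (PrimeSpectrum k))
    rw [W.range_ι, Subsingleton.elim (α := ↥(Spec (CommRingCat.of k))) p (IsLocalRing.closedPoint k)]
    exact hRW
  let R' : Spec (CommRingCat.of k) ⟶ (W : Scheme.{u}) := IsOpenImmersion.lift W.ι R.left hRr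
  have hR' : R' ≫ W.ι = R.left := IsOpenImmersion.lift_fac _ _ _
  have hR'a : R' ≫ a = 𝟙 _ := by
    show R' ≫ W.ι ≫ U.ι ≫ fX = 𝟙 _
    rw [← Category.assoc, hR']
    exact Over.w R
  let ρ : (W : Scheme.{u}) ⟶ P := pullback.lift (a ≫ R') (𝟙 _) (by rw [Category.assoc, hR'a]; simp)
  have sqρ : IsPullback ρ a (pullback.fst a a) R' := by
    refine IsPullback.of_right (h₁₂ := pullback.snd a a) (v₁₃ := a) (h₂₂ := a) ?_ (pullback.lift_fst _ _ _)
      (IsPullback.of_hasPullback a a).flip
    rw [pullback.lift_snd, hR'a]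
    exact IsPullback.of_horiz_isIso ⟨by simp⟩
  have sq := ((IsPullback.of_hasPullback ρ G.subschemeι).flip).paste_vert sqρ
  haveI : Smooth (pullback.fst ρ G.subschemeι ≫ a) := MorphismProperty.of_isPullback sq hs1
  have hred : IsReduced (pullback ρ G.subschemeι) := isReduced_of_smooth_field (pullback.fst ρ G.subschemeι ≫ a)
  haveI : IsReduced (G.comap ρ).subscheme := isReduced_of_isOpenImmersion (G.comapIso ρ).hom
  have hfin : ρ ≫ ω = W.ι ≫ HilbOne.sect fX (TT U) (constPt (ptOf R) (TT U)).1 (constPt (ptOf R) (TT U)).2 := by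
    refine pullback.hom_ext ?_ ?_
    · rw [Category.assoc, hω1, pullback.lift_fst_assoc]
      simp only [Category.assoc, HilbOne.sect_fst]
      simp [a, constPt, ptOf, reassoc_of% hR']
    · rw [Category.assoc, show pullback.snd fX (TT U).hom = XTproj fX (TT U) from rfl, hω2, pullback.lift_snd_assoc,
        Category.assoc, show HilbOne.sect fX (TT U) (constPt (ptOf R) (TT U)).1 _ ≫ XTproj fX (TT U) = 𝟙 _ from
          HilbOne.sect_snd _ _ _ _]
      simp
  rw [← Scheme.IdealSheafData.comap_comp, ← hfin, Scheme.IdealSheafData.comap_comp]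
  exact ‹IsReduced (G.comap ρ).subscheme›

end Groth.Agent.PicTheta
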