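import Groth.Agent.PicCurve.Transport
import Groth.Agent.PicCurve.AlbCoarse
import Groth.Agent.AlmostBlow.Basic
import Groth.Agent.AgBC.PoincareBC

/-!
The universal class of the Jacobian of a curve with a rational point under extension of the ground field.
-/

set_option autoImplicit false
set_option backward.isDefEq.respectTransparency false
set_option backward.isDefEq.respectTransparency.types false
set_option linter.style.haveILetI false
set_option linter.unusedSectionVars false
set_option maxHeartbeats 1000000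

universe u

open CategoryTheory CategoryTheory.Limits AlgebraicGeometry TopologicalSpace MonoidalCategory CartesianMonoidalCategory
open PicF
open scoped MonObj
open Groth.Agent.W7Cube (pull pull_pull pull_cls)
open Groth.Agent.PicCurve
open Groth.Agent.AgBC (toDn toDn_left toDn_mul)

attribute [local instance] Groth.Agent.W7Cube.law

noncomputable section

namespace Groth.Agent.PicTheta.Bar

variable {k K : Type u} [Field k] [Field K] {X : Scheme.{u}} (f : X ⟶ Spec (CommRingCat.of k)) [IsProper f]
  [SmoothOfRelativeDimension 1 f] [GeometricallyConnected f] (σ : Spec (CommRingCat.of k) ⟶ X)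
  (hσ : σ ≫ f = 𝟙 _) (p : Spec (CommRingCat.of K) ⟶ Spec (CommRingCat.of k))

instance isProper_fB : IsProper (fB f p) := MorphismProperty.pullback_snd (P := @IsProper) _ _ ‹_›

instance geomConn_fB : GeometricallyConnected (fB f p) :=
  MorphismProperty.pullback_snd (P := @GeometricallyConnected) _ _ ‹_›

/-- A point of the extended curve, seen below. -/
theorem ptCl_upCl (T : Over (Spec (CommRingCat.of K))) (x' : T.left ⟶ pullback f p) (hx' : x' ≫ fB f p = T.hom) :
    upCl f p T (ptCl f (downOver p T) (x' ≫ pullback.fst f p)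
      (by rw [Category.assoc, pullback.condition, ← Category.assoc, show x' ≫ pullback.snd f p = T.hom from hx']; rfl)) =
      ptCl (fB f p) T x' hx' := by
  have hx : (x' ≫ pullback.fst f p) ≫ f = (downOver p T).hom := by
    rw [Category.assoc, pullback.condition, ← Category.assoc, show x' ≫ pullback.snd f p = T.hom from hx']; rfl
  let s' := HilbOne.sect (fB f p) T x' hx'
  let s := HilbOne.sect f (downOver p T) (x' ≫ pullback.fst f p) hx
  have hs : s' ≫ (upIso f p T).hom = 𝟙 _ ≫ s := by
    rw [Category.id_comp]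
    refine pullback.hom_ext ?_ ?_
    · rw [Category.assoc, upIso_fst, ← Category.assoc, HilbOne.sect_fst, HilbOne.sect_fst]
    · show (_ ≫ _) ≫ XTproj f _ = _ ≫ XTproj f _
      rw [Category.assoc, upIso_proj, HilbOne.sect_snd, HilbOne.sect_snd]
      rfl
  haveI : IsClosedImmersion s := by
    haveI : IsClosedImmersion (s ≫ XTproj f (downOver p T)) := by rw [HilbOne.sect_snd]; infer_instance
    exact IsClosedImmersion.of_comp s (XTproj f (downOver p T))
  have hker : s'.ker = s.ker.comap (upIso f p T).hom :=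
    AlmostBlow.ker_of_isPullback (gZ := 𝟙 T.left) (IsPullback.of_horiz_isIso ⟨hs.symm⟩)
  have h0 : BlowUp.IsEffCartierIdeal (s.ker.comap (upIso f p T).hom) :=
    hker ▸ effCartier_obj (fB f p) T (d := 1) ⟨_, HilbOne.secGraph_mem (fB f p) T x' hx'⟩
  rw [upCl, ptCl, ptCl]
  refine (pull_divCl _ _ h0).trans (divCl_congr hker.symm _ _)

theorem baseCl_upCl (T : Over (Spec (CommRingCat.of K))) :
    upCl f p T (baseCl f σ hσ (downOver p T)) = baseCl (fB f p) (σB f σ hσ p) (σB_proj f σ hσ p) T := by
  refine Eq.trans ?_ (ptCl_upCl f p T (T.hom ≫ σB f σ hσ p) (by rw [Category.assoc, σB_proj, Category.comp_id]))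
  refine congrArg (upCl f p T) (show ptCl f (downOver p T) ((downOver p T).hom ≫ σ)
    (by rw [Category.assoc, hσ, Category.comp_id]) = _ from ptCl_congr f (downOver p T) ?_ _ _)
  rw [Category.assoc, σB, pullback.lift_fst]
  exact Category.assoc _ _ _

theorem rigify_upCl (T : Over (Spec (CommRingCat.of K))) (c : PicLoc.PicSet (XT f (downOver p T))) :
    upCl f p T (rigify f σ hσ (downOver p T) c) =
      rigify (fB f p) (σB f σ hσ p) (σB_proj f σ hσ p) T (upCl f p T c) := by
  rw [rigify, rigify, map_mul, secT_upCl]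
  refine congrArg (upCl f p T c * ·) ?_
  show pull (upIso f p T).hom (pull (XTproj f (downOver p T)) _) = _
  rw [pull_pull, upIso_proj]
  rfl

theorem abelCl_upCl (T : Over (Spec (CommRingCat.of K))) (x' : T.left ⟶ pullback f p) (hx' : x' ≫ fB f p = T.hom) :
    upCl f p T (abelCl f σ hσ (downOver p T) (x' ≫ pullback.fst f p)
      (by rw [Category.assoc, pullback.condition, ← Category.assoc, show x' ≫ pullback.snd f p = T.hom from hx']; rfl)) =
      abelCl (fB f p) (σB f σ hσ p) (σB_proj f σ hσ p) T x' hx' := by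
  rw [abelCl, abelCl, rigify_upCl, map_mul, map_inv, ptCl_upCl, baseCl_upCl]

variable {J : Over (Spec (CommRingCat.of k))} (ξ : PicLoc.PicSet (XT f J))

/-- The projection of the extended group to the group. -/
def proj : downOver p (Red.bc p J) ⟶ J := Over.homMk (pullback.fst J.hom p) pullback.condition

theorem downMap_proj {T : Over (Spec (CommRingCat.of K))} (m : T ⟶ Red.bc p J) :
    downMap p m ≫ proj p = toDn p m :=
  Over.OverMorphism.ext (toDn_left p m).symm

/-- The universal class over the extension. -/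
def xiB : PicLoc.PicSet (XT (fB f p) (Red.bc p J)) := upCl f p (Red.bc p J) (pull (XTmap f (proj p)) ξ)

theorem pull_xiB {T : Over (Spec (CommRingCat.of K))} (m : T ⟶ Red.bc p J) :
    pull (XTmap (fB f p) m) (xiB f p ξ) = upCl f p T (pull (XTmap f (toDn p m : downOver p T ⟶ J)) ξ) := by
  rw [xiB, upCl_pull, pull_pull, S12404.XTmap_comp, downMap_proj]

theorem xiB_mem (h1 : pull (secT f σ hσ J) ξ = 1) :
    pull (secT (fB f p) (σB f σ hσ p) (σB_proj f σ hσ p) (Red.bc p J)) (xiB f p ξ) = 1 := by
  rw [xiB, secT_upCl]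
  exact pull_secT (proj p) h1

theorem xiB_zero (h0 : Zero f J ξ) : Zero (fB f p) (Red.bc p J) (xiB f p ξ) := fun t => by
  rw [xiB, degC_upCl, degC_pull]
  exact h0 _

theorem xiB_classifies (hc : Classifies f σ hσ (Zero f) J ξ) :
    Classifies (fB f p) (σB f σ hσ p) (σB_proj f σ hσ p) (Zero (fB f p)) (Red.bc p J) (xiB f p ξ) := by
  intro T c hc1 hc0
  obtain ⟨g0, hg0, hu⟩ := hc (downOver p T) (downCl f p T c) (by rw [← secT_upCl, up_down]; exact hc1)
    (fun t => by rw [← degC_upCl f p T, up_down]; exact hc0 t)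
  let e := (Over.mapPullbackAdj p).homEquiv T J
  have key : ∀ m : T ⟶ Red.bc p J, pull (XTmap (fB f p) m) (xiB f p ξ) = c ↔
      pull (XTmap f (toDn p m : downOver p T ⟶ J)) ξ = downCl f p T c := fun m => by
    rw [pull_xiB]
    exact ⟨fun h => by rw [← h, down_up], fun h => by rw [h, up_down]⟩
  have he : toDn p (e g0) = g0 := e.symm_apply_apply g0
  refine ⟨e g0, (key _).2 (by rw [he]; exact hg0), fun m hm => ?_⟩
  rw [← hu _ ((key m).1 hm)]
  exact (e.apply_symm_apply m).symm

theorem xiB_mul [GrpObj J] (hmul : ∀ (T : Over (Spec (CommRingCat.of k))) (a b : T ⟶ J),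
      pull (XTmap f (lift a b ≫ μ[J])) ξ = pull (XTmap f a) ξ * pull (XTmap f b) ξ)
    (T : Over (Spec (CommRingCat.of K))) (a b : T ⟶ Red.bc p J) :
    pull (XTmap (fB f p) (lift a b ≫ μ[Red.bc p J])) (xiB f p ξ) =
      pull (XTmap (fB f p) a) (xiB f p ξ) * pull (XTmap (fB f p) b) (xiB f p ξ) := by
  rw [pull_xiB, pull_xiB, pull_xiB, ← map_mul, ← hmul]
  congr 3
  rw [← Hom.mul_def, ← Hom.mul_def]
  exact congrArg (XTmap f) (toDn_mul p a b)

/-- The Abel map over the extension. -/
def abelB (j : Over.mk f ⟶ J) : Over.mk (fB f p) ⟶ Red.bc p J :=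
  Over.homMk (pullback.lift (pullback.fst f p ≫ j.left) (pullback.snd f p)
    (by rw [Category.assoc, Over.w j]; exact pullback.condition)) (pullback.lift_snd _ _ _)

theorem abelB_fst (j : Over.mk f ⟶ J) : (abelB f p j).left ≫ pullback.fst J.hom p = pullback.fst f p ≫ j.left :=
  pullback.lift_fst _ _ _

theorem xiB_abel (j : Over.mk f ⟶ J)
    (hj : pull (XTmap f j) ξ = abelCl f σ hσ (Over.mk f) (𝟙 X) (Category.id_comp f)) :
    pull (XTmap (fB f p) (abelB f p j)) (xiB f p ξ) =
      abelCl (fB f p) (σB f σ hσ p) (σB_proj f σ hσ p) (Over.mk (fB f p)) (𝟙 (pullback f p))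
        (Category.id_comp (fB f p)) := by
  let πC : downOver p (Over.mk (fB f p)) ⟶ Over.mk f := Over.homMk (pullback.fst f p) pullback.condition
  have h : (toDn p (abelB f p j) : downOver p (Over.mk (fB f p)) ⟶ J) = πC ≫ j :=
    Over.OverMorphism.ext ((toDn_left p _).trans (abelB_fst f p j))
  rw [pull_xiB, h, ← S12404.XTmap_comp, ← pull_pull, hj, pull_abelCl]
  refine Eq.trans ?_ (abelCl_upCl f σ hσ p (Over.mk (fB f p)) (𝟙 _) (Category.id_comp _))
  congr 1

end Groth.Agent.PicTheta.Bar
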