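import Groth.Agent.PicTheta.BarPrincipal
import Groth.Agent.Zarhin.Dual
import Groth.Agent.Chev.LargestSA

/-!
The homomorphism of the theta class and the transpose of the Abel map over any field.
-/

set_option autoImplicit false
set_option backward.isDefEq.respectTransparency false
set_option backward.isDefEq.respectTransparency.types false
set_option linter.style.haveILetI false
set_option linter.unusedSectionVars false
set_option maxHeartbeats 1600000
set_option synthInstance.maxHeartbeats 200000

universe u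

open CategoryTheory CategoryTheory.Limits AlgebraicGeometry TopologicalSpace MonoidalCategory CartesianMonoidalCategory
open PicF
open scoped MonObj
open Groth.Agent.W7Cube (pull pull_pull pull_cls pc pc_one)
open Groth.Agent.AbPrim (val)
open Groth.Agent.PicCurve
open Groth.Agent.AgBC (toDn toDn_left toDn_mul toDn_id)

attribute [local instance] Groth.Agent.W7Cube.law

noncomputable section

namespace Groth.Agent.PicTheta.Bar

section Maps

variable {k K : Type u} [Field k] [Field K] (p : Spec (CommRingCat.of K) ⟶ Spec (CommRingCat.of k))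

theorem toDn_map {A B : Over (Spec (CommRingCat.of k))} (h : A ⟶ B) :
    (toDn p ((Over.pullback p).map h) : AgBC.dn p (Red.bc p A) ⟶ B) = AgBC.prD p A ≫ h :=
  Over.OverMorphism.ext ((toDn_left p _).trans (pullback.lift_fst _ _ _))

/-- The inversion of the base change. -/
theorem map_inv_id {A : Over (Spec (CommRingCat.of k))} [GrpObj A] :
    (Over.pullback p).map (𝟙 A : A ⟶ A)⁻¹ = (𝟙 (Red.bc p A))⁻¹ := by
  refine ((Over.mapPullbackAdj p).homEquiv _ _).symm.injective ?_
  show toDn p ((Over.pullback p).map (𝟙 A : A ⟶ A)⁻¹) = toDn p (𝟙 (Red.bc p A))⁻¹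
  rw [toDn_map, GrpObj.comp_inv, Category.comp_id]
  let φ : (Red.bc p A ⟶ Red.bc p A) →* (AgBC.dn p (Red.bc p A) ⟶ A) :=
    MonoidHom.mk' (fun m => toDn p m) (toDn_mul p)
  show _ = φ (𝟙 (Red.bc p A))⁻¹
  rw [map_inv]
  exact (congrArg _ (toDn_id p)).symm

end Maps

variable {k : Type u} [Field k]

theorem lamCls_eq_lamCl {J : Over (Spec (CommRingCat.of k))} [GrpObj J] [IsCommMonObj J] (L : PicLoc.PicSet J.left) :
    GraphLocus.lamCls L = lamCl L := by
  rw [GraphLocus.lamCls, lamCl, mul_inv_rev, mul_comm ((pull (snd J J).left) L)⁻¹, ← _root_.mul_assoc]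
  rfl

/-- The homomorphism attached to an invertible module is that of its class. -/
theorem lam_eq_lamHom {A At : Over (Spec (CommRingCat.of k))} [GrpObj A] [IsCommMonObj A]
    {φ : AgPol.DualMap A At} {L : A.left.Modules} (hL : PicF.IsInvertible L) {lam : A ⟶ At}
    (hlam : AgPol.IsLambda A At φ L lam) : lam = GraphLocus.lamHom φ (PicGrp.cls L hL) := by
  obtain ⟨N, hN, hNs, rfl⟩ := hlam
  exact congrArg (fun d : PicLoc.PicSet (A ⊗ A).left => φ A d.1)
    ((GraphLocus.isLambdaSheaf_iff _ _ _ L hL N hN).1 hNs)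

/-- A right inverse of the homomorphism of a class, up to inversion, is a left inverse. -/
theorem comp_eq_inv_of_comp_eq_inv {K : Type u} [Field K] [IsAlgClosed K]
    (p : Spec (CommRingCat.of K) ⟶ Spec (CommRingCat.of k)) [Surjective p]
    {J Jt : Over (Spec (CommRingCat.of k))} [GrpObj J] [IsCommMonObj J] [GrpObj Jt] [IsCommMonObj Jt]
    [IsProper J.hom] [Smooth J.hom] [GeometricallyIntegral J.hom] {g : ℕ}
    (hgK : topologicalKrullDim (Red.bc p J).left = g) {φ : AgPol.DualMap J Jt}
    (hA : AbDual.IsDualAV Scheme.fppfPrecoverage J Jt φ) (lam : J ⟶ Jt) [IsMonHom lam] (fd : Jt ⟶ J)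
    (h : lam ≫ fd = (𝟙 J)⁻¹) : fd ≫ lam = (𝟙 Jt)⁻¹ := by
  let J' := Red.bc p J
  let T' := Red.bc p Jt
  haveI : IsProper J'.hom := MorphismProperty.pullback_snd (P := @IsProper) _ _ ‹_›
  haveI : Smooth J'.hom := MorphismProperty.pullback_snd (P := @Smooth) _ _ ‹_›
  haveI : GeometricallyIntegral J'.hom := MorphismProperty.pullback_snd (P := @GeometricallyIntegral) _ _ ‹_›
  obtain ⟨hTp, hTi, hTd, -⟩ := Zarhin.exists_weak J' T' hgK (AgBC.isDualAV_bcDual p hA)
  haveI := hTp
  haveI := hTi
  haveI : Smooth T'.hom := Zarhin.smooth_av T'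
  haveI : Subsingleton ↥(Spec (CommRingCat.of K)) := inferInstanceAs (Subsingleton (PrimeSpectrum K))
  haveI : IsIntegral J'.left := GeometricallyIntegral.isIntegral_of_subsingleton J'.hom
  haveI : IsIntegral T'.left := GeometricallyIntegral.isIntegral_of_subsingleton T'.hom
  haveI : ConnectedSpace J'.left := inferInstance
  haveI : ConnectedSpace T'.left := inferInstance
  let l : J' ⟶ T' := (Over.pullback p).map lam
  let d : T' ⟶ J' := (Over.pullback p).map fd
  have hld : l ≫ d = (𝟙 J')⁻¹ := by
    show (Over.pullback p).map lam ≫ (Over.pullback p).map fd = _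
    rw [← Functor.map_comp, h, map_inv_id]
  have hi : (𝟙 J' : J' ⟶ J')⁻¹ ≫ (𝟙 J')⁻¹ = 𝟙 J' := inv_inv_hom
  haveI : IsIso (l.left ≫ d.left) := by
    rw [← Over.comp_left, hld]
    exact ⟨((𝟙 J')⁻¹).left, congrArg CommaMorphism.left hi, congrArg CommaMorphism.left hi⟩
  haveI : IsSeparated (d.left ≫ J'.hom) := by rw [Over.w d]; infer_instance
  haveI : IsSeparated d.left := IsSeparated.of_comp d.left J'.hom
  haveI : IsClosedImmersion l.left := IsClosedImmersion.of_comp l.left d.left
  haveI : IsMonHom l := inferInstanceAs (IsMonHom ((Over.pullback p).map lam))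
  haveI : IsIso l := Chev.isIso_of_dim_eq l (hgK.trans hTd.symm)
  have hdl : d ≫ l = (𝟙 T')⁻¹ := by
    rw [← cancel_epi l, ← Category.assoc, hld, GrpObj.comp_inv, Category.comp_id]
    exact (GrpObj.inv_comp (𝟙 J') l).trans (by rw [Category.id_comp])
  have hπ : (toDn p (d ≫ l) : AgBC.dn p T' ⟶ Jt) = toDn p ((Over.pullback p).map (𝟙 Jt : Jt ⟶ Jt)⁻¹) := by
    rw [hdl, map_inv_id]
  rw [show d ≫ l = (Over.pullback p).map (fd ≫ lam) from ((Over.pullback p).map_comp fd lam).symm, toDn_map,
    toDn_map] at hπ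
  haveI : Flat (pullback.fst Jt.hom p) := MorphismProperty.pullback_fst (P := @Flat) _ _ inferInstance
  haveI : Surjective (pullback.fst Jt.hom p) := MorphismProperty.pullback_fst (P := @Surjective) _ _ ‹_›
  haveI : QuasiCompact (pullback.fst Jt.hom p) := MorphismProperty.pullback_fst (P := @QuasiCompact) _ _ inferInstance
  haveI := Flat.epi_of_flat_of_surjective (pullback.fst Jt.hom p)
  exact Over.OverMorphism.ext ((cancel_epi (pullback.fst Jt.hom p)).1 (congrArg CommaMorphism.left hπ))

end Groth.Agent.PicTheta.Bar
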