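import Groth.Agent.PicTheta.Poincare
import Groth.Agent.AVDual.RankKL
import Groth.Agent.AVEuler.Square

/-!
A class whose translates restrict along the Abel map to the classes of the points is a principal polarisation.
-/

set_option autoImplicit false
set_option backward.isDefEq.respectTransparency false
set_option backward.isDefEq.respectTransparency.types false
set_option linter.style.haveILetI false
set_option linter.unusedSectionVars false
set_option maxHeartbeats 1000000

universe u

open CategoryTheory CategoryTheory.Limits AlgebraicGeometry TopologicalSpace MonoidalCategory CartesianMonoidalCategory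
open PicF
open scoped MonObj
open Groth.Agent.W7Cube (pull pull_pull pull_cls pc cube_rel pc_one)
open Groth.Agent.AbPrim (val)
open Groth.Agent.PicCurve

attribute [local instance] Groth.Agent.W7Cube.law

noncomputable section

namespace Groth.Agent.PicTheta

variable {k : Type u} [Field k] [IsAlgClosed k] {C : Scheme.{u}} [C.Over (Spec (CommRingCat.of k))]
  [IsProper (C ↘ Spec (CommRingCat.of k))] [Smooth (C ↘ Spec (CommRingCat.of k))]
  [GeometricallyConnected (C ↘ Spec (CommRingCat.of k))] [GeometricallyIrreducible (C ↘ Spec (CommRingCat.of k))]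
  [SmoothOfRelativeDimension 1 (C ↘ Spec (CommRingCat.of k))] [IsIntegral C]
  (hd : topologicalKrullDim C = 1)

local notation "fX" => (C ↘ Spec (CommRingCat.of k))

variable {J : Over (Spec (CommRingCat.of k))} [GrpObj J] [IsCommMonObj J] [IsProper J.hom] [Smooth J.hom]
  [GeometricallyIntegral J.hom]
  {σ : {τ : Spec (CommRingCat.of k) ⟶ C // τ ≫ (C ↘ Spec (CommRingCat.of k)) = 𝟙 _}}
  {j : Over.mk (C ↘ Spec (CommRingCat.of k)) ⟶ J} (D : JacData σ J j)
  (L : PicLoc.PicSet J.left)
  (hL : ∀ d, pull (onC (j ≫ Jac.transl J d)) L = (D.cl d)⁻¹ * pull (onC j) L)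

include hd hL in
/-- Only the trivial translation fixes the class. -/
theorem eq_one_of_pull_transl (d : (𝟙_ (Over (Spec (CommRingCat.of k)))) ⟶ J)
    (h : pull (Jac.transl J d).left L = L) : d = 1 := by
  refine D.cl_injective hd ?_
  have h2 := hL d
  rw [onC, Over.comp_left, ← pull_pull, h] at h2
  rw [map_one, ← inv_eq_one]
  exact right_eq_mul.1 (show pull (onC j) L = (D.cl d)⁻¹ * pull (onC j) L from h2)

theorem lamCl_eq : lamCl L = AVMukai.lam L (fst J J) (snd J J) := by
  have h : fst J J * snd J J = μ[J] := by rw [Hom.mul_def, lift_fst_snd, Category.id_comp]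
  rw [AVMukai.lam, h]
  rfl

theorem lam_mul_left {V : Over (Spec (CommRingCat.of k))} (a b t : V ⟶ J) :
    AVMukai.lam L (a * b) t = AVMukai.lam L a t * AVMukai.lam L b t := by
  have h := cube_rel L a b t
  rw [AVMukai.lam, AVMukai.lam, AVMukai.lam,
    show pc L (a * b * t) = pc L (a * b) * pc L (a * t) * pc L (b * t) * (pc L a * pc L b * pc L t)⁻¹ by
      rw [← h, eq_mul_inv_iff_mul_eq]; simp only [mul_assoc]]
  apply Additive.ofMul.injective; simp only [ofMul_mul, ofMul_inv]; abel

theorem val_lamCl {V : Over (Spec (CommRingCat.of k))} (a t : V ⟶ J) :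
    val (lamCl L : PicLoc.PicSet (J ⊗ J).left) a t = AVMukai.lam L a t := by
  show pull (lift a t).left (lamCl L : PicLoc.PicSet (J ⊗ J).left) = _
  rw [lamCl_eq, AVMukai.pull_lam, lift_fst, lift_snd]

theorem whiskerLeft_bcMap {T : Over (Spec (CommRingCat.of k))} (g : T ⟶ J) :
    AbDual.bcMap j T ≫ (J ◁ g).left = XTmap fX g ≫ AbDual.bcMap j J := by
  have h1 : (J ◁ g).left ≫ pullback.fst J.hom J.hom = pullback.fst J.hom T.hom :=
    congrArg CommaMorphism.left (whiskerLeft_fst J g)
  have h2 : (J ◁ g).left ≫ pullback.snd J.hom J.hom = pullback.snd J.hom T.hom ≫ g.left :=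
    congrArg CommaMorphism.left (whiskerLeft_snd J g)
  refine pullback.hom_ext ((Category.assoc _ _ _).trans ?_) ((Category.assoc _ _ _).trans ?_)
  · refine (congrArg (AbDual.bcMap j T ≫ ·) h1).trans ?_
    refine (pullback.lift_fst _ _ _).trans ?_
    rw [Category.assoc, AbDual.bcMap, pullback.lift_fst, ← Category.assoc]
    exact (congrArg (· ≫ j.left) (AbelMap.XTmap_fst fX g)).symm
  · refine (congrArg (AbDual.bcMap j T ≫ ·) h2).trans ?_
    rw [← Category.assoc, AbDual.bcMap, pullback.lift_snd, Category.comp_id, Category.assoc, AbDual.bcMap,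
      pullback.lift_snd, Category.comp_id]
    exact (XTmap_proj fX g).symm

include hd D hL in
/-- The restriction of the Mumford class to the curve is the inverse universal class. -/
theorem pull_bcMap_lamCl : pull (AbDual.bcMap j J) (lamCl L) = pull (XTmap fX ((𝟙 J)⁻¹)) D.ξ := by
  rw [← pull_lamCl_eq hd D L hL, pull_pull, ← Category.assoc, S12404.XTmap_comp, inv_inv_hom, XTmap_id,
    Category.id_comp]
  rfl

include hd D hL in
/-- A point killing the Mumford class is trivial. -/
theorem eq_one_of_lam_eq_one {T : Over (Spec (CommRingCat.of k))} (g : T ⟶ J)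
    (h : pull (J ◁ g).left (lamCl L : PicLoc.PicSet (J ⊗ J).left) = 1) : g = 1 := by
  have h1 : pull (XTmap fX (g ≫ (𝟙 J)⁻¹)) D.ξ = 1 := by
    rw [← S12404.XTmap_comp, ← pull_pull, ← pull_bcMap_lamCl hd D L hL]
    refine (pull_pull (XTmap fX g) (AbDual.bcMap j J) (lamCl L)).trans ?_
    rw [← whiskerLeft_bcMap g]
    exact (pull_pull (AbDual.bcMap j T) (J ◁ g).left _).symm.trans
      ((congrArg (pull (AbDual.bcMap j T)) h).trans (map_one _))
  obtain ⟨v, -, hv⟩ := D.classifies T 1 (map_one _) fun t => degC_one fX (fun z => (dim_fiber_spec fX z).trans hd) _ _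
  have h2 : g ≫ (𝟙 J)⁻¹ = 1 := (hv _ h1).trans (hv _ (pull_one_pt fX D.mul T)).symm
  rw [GrpObj.comp_inv, Category.comp_id] at h2
  exact inv_eq_one.1 h2

/-- The Mumford class as a pairing. -/
def weakOf : AVDual.Weak J J where
  x := lamCl L
  mul_left f g t := by rw [val_lamCl, val_lamCl, val_lamCl, lam_mul_left]
  one_right f := by rw [val_lamCl, AVMukai.lam_comm, AVMukai.lam_one]
  eq_one g h := eq_one_of_lam_eq_one hd D L hL g h

include hd D hL in
/-- The Euler characteristic of the class is a sign. -/
theorem χc_sq_eq_one {g : ℕ} (hg : Curv2.genus k C = g) (hg1 : 1 ≤ g) : AVEuler.χc L ^ 2 = 1 := by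
  have hgJ : topologicalKrullDim J.left = (g : WithBot ℕ∞) := dim_eq_genus hd D hg hg1
  have h := AVDual.χc_weak (weakOf hd D L hL) g hgJ hgJ
  rw [show (weakOf hd D L hL).x = AVMukai.lam L (fst J J) (snd J J) from lamCl_eq L, AVEuler.χc_lam hgJ] at h
  exact mul_left_cancel₀ (pow_ne_zero g (by norm_num)) (h.trans (mul_one _).symm)

end Groth.Agent.PicTheta
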