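import Groth.Agent.PicTheta.BarTheta
import Groth.Agent.PicTheta.Principal
import Groth.Agent.CurveOmega.General
import Groth.Agent.LamRigid.Main
import Groth.Agent.Castel.Ample

/-!
The theta class of a Jacobian over any field: its Mumford class restricted to the curve.
-/

set_option autoImplicit false
set_option backward.isDefEq.respectTransparency false
set_option backward.isDefEq.respectTransparency.types false
set_option linter.style.haveILetI false
set_option linter.unusedSectionVars false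
set_option maxHeartbeats 1600000

universe u

open CategoryTheory CategoryTheory.Limits AlgebraicGeometry TopologicalSpace MonoidalCategory CartesianMonoidalCategory
open PicF
open scoped MonObj
open Groth.Agent.W7Cube (pull pull_pull pull_cls pc pc_one)
open Groth.Agent.AbPrim (val)
open Groth.Agent.PicCurve
open Groth.Agent.AgBC (toDn toDn_left toDn_mul xtPr)

attribute [local instance] Groth.Agent.W7Cube.law

noncomputable section

namespace Groth.Agent.PicTheta.Bar

section Pairing

variable {k : Type u} [Field k] {J : Over (Spec (CommRingCat.of k))} [GrpObj J]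

theorem val_lamCl' (L : PicLoc.PicSet J.left) {V : Over (Spec (CommRingCat.of k))} (a t : V ⟶ J) :
    val (lamCl L : PicLoc.PicSet (J ⊗ J).left) a t = AVMukai.lam L a t := by
  have h : fst J J * snd J J = μ[J] := by rw [Hom.mul_def, lift_fst_snd, Category.id_comp]
  have e : lamCl L = AVMukai.lam L (fst J J) (snd J J) := by rw [AVMukai.lam, h]; rfl
  show pull (lift a t).left (lamCl L : PicLoc.PicSet (J ⊗ J).left) = _
  rw [e, AVMukai.pull_lam, lift_fst, lift_snd]

/-- A class of the group over an extension of the base. -/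
abbrev barCl {K : Type u} [Field K] (p : Spec (CommRingCat.of K) ⟶ Spec (CommRingCat.of k))
    (L : PicLoc.PicSet J.left) : PicLoc.PicSet (Red.bc p J).left := pull (pullback.fst J.hom p) L

/-- The Mumford class under extension of the base. -/
theorem lamCl_xtPr {K : Type u} [Field K] (p : Spec (CommRingCat.of K) ⟶ Spec (CommRingCat.of k))
    (L : PicLoc.PicSet J.left) :
    pull (xtPr p J J) (lamCl L) = lamCl (J := Red.bc p J) (barCl p L) := by
  let J' := Red.bc p J
  have hval : ∀ c : PicLoc.PicSet (J' ⊗ J').left, val c (fst J' J') (snd J' J') = c := fun c => by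
    rw [val, lift_fst_snd]
    exact PicGrp.pullHom_id_apply _ _
  have hpc : ∀ f : (J' ⊗ J') ⟶ J', pc (barCl p L) f = pull (toDn p f).left L := fun f => by
    refine (pull_pull f.left (pullback.fst J.hom p) L).trans ?_
    rw [toDn_left]
    rfl
  refine (hval _).symm.trans (Eq.trans ?_ (hval _))
  refine (AgBC.val_pull_xtPr p (lamCl L : PicLoc.PicSet (J ⊗ J).left) (fst J' J') (snd J' J')).trans ?_
  rw [val_lamCl', val_lamCl', AVMukai.lam, AVMukai.lam, hpc, hpc, hpc, toDn_mul]
  rfl

end Pairing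

section Maps

variable {k K : Type u} [Field k] [Field K] {X : Scheme.{u}} {f : X ⟶ Spec (CommRingCat.of k)} [IsProper f]
  [SmoothOfRelativeDimension 1 f] [GeometricallyConnected f]
  {J : Over (Spec (CommRingCat.of k))} (p : Spec (CommRingCat.of K) ⟶ Spec (CommRingCat.of k))

theorem bcMap_fst {S : Scheme.{u}} {A B : Over S} (g : A ⟶ B) (T : Over S) :
    AbDual.bcMap g T ≫ pullback.fst B.hom T.hom = pullback.fst A.hom T.hom ≫ g.left := pullback.lift_fst _ _ _

theorem bcMap_snd {S : Scheme.{u}} {A B : Over S} (g : A ⟶ B) (T : Over S) :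
    AbDual.bcMap g T ≫ pullback.snd B.hom T.hom = pullback.snd A.hom T.hom :=
  (pullback.lift_snd _ _ _).trans (Category.comp_id _)

theorem xtPr_fst : xtPr p J J ≫ pullback.fst J.hom J.hom =
    pullback.fst (Red.bc p J).hom (Red.bc p J).hom ≫ pullback.fst J.hom p := by
  rw [xtPr, Category.assoc, AbelMap.XTmap_fst]
  exact pullbackLeftPullbackSndIso_hom_fst _ _ _

theorem xtPr_snd : xtPr p J J ≫ pullback.snd J.hom J.hom =
    pullback.snd (Red.bc p J).hom (Red.bc p J).hom ≫ pullback.fst J.hom p := by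
  rw [xtPr, Category.assoc, show XTmap J.hom (AgBC.prD p J) ≫ pullback.snd J.hom J.hom =
    XTproj J.hom (AgBC.dn p (Red.bc p J)) ≫ (AgBC.prD p J).left from XTmap_proj J.hom _, ← Category.assoc]
  exact congrArg (· ≫ (AgBC.prD p J).left) (AgBC.hom_proj p _)

theorem bcMap_xtPr (j : Over.mk f ⟶ J) :
    AbDual.bcMap (abelB f p j) (Red.bc p J) ≫ xtPr p J J =
      (upIso f p (Red.bc p J)).hom ≫ XTmap f (proj p : downOver p (Red.bc p J) ⟶ J) ≫ AbDual.bcMap j J := by
  have l1 := bcMap_fst (abelB f p j) (Red.bc p J)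
  have r1 : (upIso f p (Red.bc p J)).hom ≫ XTmap f (proj p : downOver p (Red.bc p J) ⟶ J) ≫ pullback.fst f J.hom =
      pullback.fst (fB f p) (Red.bc p J).hom ≫ pullback.fst f p := by
    rw [AbelMap.XTmap_fst, upIso_fst]
  have l2 := bcMap_snd (abelB f p j) (Red.bc p J)
  have r2 : (upIso f p (Red.bc p J)).hom ≫ XTmap f (proj p : downOver p (Red.bc p J) ⟶ J) ≫ pullback.snd f J.hom =
      pullback.snd (fB f p) (Red.bc p J).hom ≫ pullback.fst J.hom p := by
    rw [show XTmap f (proj p : downOver p (Red.bc p J) ⟶ J) ≫ pullback.snd f J.hom =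
      XTproj f (downOver p (Red.bc p J)) ≫ (proj p : downOver p (Red.bc p J) ⟶ J).left from XTmap_proj f _,
      ← Category.assoc, upIso_proj]
    rfl
  refine pullback.hom_ext ?_ ?_
  · refine (Category.assoc _ _ _).trans ((congrArg (_ ≫ ·) (xtPr_fst p)).trans ?_)
    refine (Category.assoc _ _ _).symm.trans ((congrArg (· ≫ pullback.fst J.hom p) l1).trans ?_)
    refine (Category.assoc _ _ _).trans ((congrArg (_ ≫ ·) (abelB_fst f p j)).trans ?_)
    refine (Category.assoc _ _ _).symm.trans ((congrArg (· ≫ j.left) r1.symm).trans ?_)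
    simp only [Category.assoc]
    exact congrArg (fun m => _ ≫ _ ≫ m) (bcMap_fst j J).symm
  · refine (Category.assoc _ _ _).trans ((congrArg (_ ≫ ·) (xtPr_snd p)).trans ?_)
    refine (Category.assoc _ _ _).symm.trans ((congrArg (· ≫ pullback.fst J.hom p) l2).trans ?_)
    refine r2.symm.trans ?_
    simp only [Category.assoc]
    exact congrArg (fun m => _ ≫ _ ≫ m) (bcMap_snd j J).symm

end Maps

variable {k : Type u} [Field k] {C : Scheme.{u}} [C.Over (Spec (CommRingCat.of k))]
  [IsProper (C ↘ Spec (CommRingCat.of k))] [SmoothOfRelativeDimension 1 (C ↘ Spec (CommRingCat.of k))]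
  [GeometricallyConnected (C ↘ Spec (CommRingCat.of k))] [Smooth (C ↘ Spec (CommRingCat.of k))]
  [GeometricallyIrreducible (C ↘ Spec (CommRingCat.of k))] [IsIntegral C]

local notation "fX" => (C ↘ Spec (CommRingCat.of k))

variable {σ : {τ : Spec (CommRingCat.of k) ⟶ C // τ ≫ (C ↘ Spec (CommRingCat.of k)) = 𝟙 _}}
  {J : Over (Spec (CommRingCat.of k))} [GrpObj J] [IsCommMonObj J]
  {j : Over.mk (C ↘ Spec (CommRingCat.of k)) ⟶ J} (D : JacData σ J j) (hd : topologicalKrullDim C = 1)

include hd in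
/-- Every class of degree zero is the class of a rational point. -/
theorem exists_clk (c : PicLoc.PicSet C) (hc : degP k c = 0) :
    ∃ a : (𝟙_ (Over (Spec (CommRingCat.of k)))) ⟶ J, clk D a = c := by
  obtain ⟨x, hx, -⟩ := D.classifies (onePt k) (rigify fX σ.1 σ.2 _ (pull (pullback.fst fX (onePt k).hom) c))
    (rigify_mem fX σ.1 σ.2 _ _) (fun t => by
      rw [degC_rigify fX (fun z => (dim_fiber_spec fX z).trans hd), degC_toPt k hd, pull_toPt_fst, hc])
  refine ⟨x, ?_⟩
  rw [clk]
  exact (congrArg (pull (toPt k)) hx).trans (by rw [pull_toPt_rigify, pull_toPt_fst])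

include hd in
/-- A point translating the image of the power of the curve onto the theta locus. -/
theorem exists_shift {N : C.Modules} (hN : PicF.IsInvertible N) (r : ℕ) (hdeg : Curv2.deg k C N 1 = (r : ℤ)) :
    ∃ a : (𝟙_ (Over (Spec (CommRingCat.of k)))) ⟶ J, (clk D a)⁻¹ * delta k σ hd ^ r = PicGrp.cls N hN := by
  have hpow : ∀ n : ℕ, degP k (delta k σ hd ^ n) = n := fun n => by
    induction n with
    | zero =>
      have h := degP_mul k hd (1 : PicLoc.PicSet C) 1
      rw [_root_.mul_one] at h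
      rw [pow_zero]
      push_cast
      omega
    | succ n ih => rw [pow_succ, degP_mul k hd, ih, degP_delta k hd]; push_cast; rfl
  have hq : degP k (delta k σ hd ^ r * (PicGrp.cls N hN)⁻¹) + degP k (PicGrp.cls N hN) =
      degP k (delta k σ hd ^ r) := by
    rw [← degP_mul k hd, inv_mul_cancel_right]
  obtain ⟨a, ha⟩ := exists_clk D hd (delta k σ hd ^ r * (PicGrp.cls N hN)⁻¹) (by
    rw [degP_cls k hN, hdeg, hpow] at hq; omega)
  refine ⟨a, ?_⟩
  rw [ha, mul_inv_rev, inv_inv, inv_mul_cancel_right]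

include hd in
/-- The theta class after extension to an algebraically closed field. -/
theorem pull_theta_translate {g : ℕ} (hg : Curv2.genus k C = g) (hg1 : 1 ≤ g) [Smooth J.hom]
    [GeometricallyIntegral J.hom] (ψ : (ModFun.PicDeg fX 0).Hom ⊤ J)
    (hψ : ∀ (T : Over (Spec (CommRingCat.of k))) (x : (XT fX T).Modules) (hx : (ModFun.PicDeg fX 0).ok T x)
        (hxi : PicF.IsInvertible x) (v : T ⟶ J),
        ψ.app T x trivial hx = v ↔ pull (XTmap fX v) D.ξ = rigify fX σ.1 σ.2 T (PicGrp.cls x hxi))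
    {N : C.Modules} (hN : PicF.IsInvertible N) (hNdeg : Curv2.deg k C N 1 = (g : ℤ) - 1)
    {ΘJ : J.left.Modules} (hΘJ : Jac.IsThetaLB fX 0 ψ N ΘJ)
    {K : Type u} [Field K] [IsAlgClosed K] (p : Spec (CommRingCat.of K) ⟶ Spec (CommRingCat.of k))
    (hgK : Curv2.genus K (CK C p) = g) (d : (𝟙_ (Over (Spec (CommRingCat.of K)))) ⟶ Red.bc p J) :
    pull (onC (C := CK C p) (abelB fX p j ≫ Jac.transl (Red.bc p J) d))
        (barCl p (PicGrp.cls ΘJ hΘJ.1)) =
      ((jacK p D).cl d)⁻¹ * pull (onC (C := CK C p) (abelB fX p j))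
        (barCl p (PicGrp.cls ΘJ hΘJ.1)) := by
  haveI := D.proper
  haveI : Smooth (Red.bc p J).hom := MorphismProperty.pullback_snd (P := @Smooth) _ _ ‹_›
  haveI : GeometricallyIntegral (Red.bc p J).hom :=
    MorphismProperty.pullback_snd (P := @GeometricallyIntegral) _ _ ‹_›
  obtain ⟨a, ha⟩ := exists_shift D hd hN (g - 1) (by rw [hNdeg]; omega)
  have hZe := thetaLocus_eq_range D hd (g - 1) a ha ψ hψ hN rfl
  have hZ : IsClosed (Set.range (qMap j (g - 1) a).left) := hZe ▸ isClosed_closure
  let Z := Scheme.IdealSheafData.vanishingIdeal (X := J.left) ⟨_, hZ⟩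
  have hL' : ClSub.IsInverseOf ΘJ (ClSub.idealMod Z) := by
    refine (congrArg (fun Z => ClSub.IsInverseOf ΘJ (ClSub.idealMod (Scheme.IdealSheafData.vanishingIdeal Z)))
      (Closeds.ext ?_)).mp hΘJ.2
    exact hZe
  have hZc : BlowUp.IsEffCartierIdeal Z :=
    (S8914.result Z).1 (Castel.isInvertible_of_isInverseOf hΘJ.1 (hL'.map fun e => TMul.commIso _ _ ≪≫ e))
  obtain ⟨hI, hL⟩ := exists_translate_theta (dim_CK p hd) (jacK p D) hgK hg1 (ptK p a)
  have hc := comap_vanishingIdeal D (g - 1) a p hZ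
  have e : barCl p (PicGrp.cls ΘJ hΘJ.1) = divCl (Y := (Red.bc p J).left) _ hI := by
    rw [cls_eq_divCl hΘJ.1 hZc hL']
    refine (pull_divCl (Y' := (Red.bc p J).left) (pullback.fst J.hom p) hZc (hc.symm ▸ hI)).trans ?_
    exact divCl_congr hc _ hI
  rw [e]
  exact hL d

include hd in
/-- **The Mumford class of the theta class restricted along the Abel map is the inverse universal class.** -/
theorem pull_bcMap_lamCl_theta {g : ℕ} (hg : Curv2.genus k C = g) (hg1 : 1 ≤ g) [Smooth J.hom]
    [GeometricallyIntegral J.hom] (ψ : (ModFun.PicDeg fX 0).Hom ⊤ J)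
    (hψ : ∀ (T : Over (Spec (CommRingCat.of k))) (x : (XT fX T).Modules) (hx : (ModFun.PicDeg fX 0).ok T x)
        (hxi : PicF.IsInvertible x) (v : T ⟶ J),
        ψ.app T x trivial hx = v ↔ pull (XTmap fX v) D.ξ = rigify fX σ.1 σ.2 T (PicGrp.cls x hxi))
    {N : C.Modules} (hN : PicF.IsInvertible N) (hNdeg : Curv2.deg k C N 1 = (g : ℤ) - 1)
    {ΘJ : J.left.Modules} (hΘJ : Jac.IsThetaLB fX 0 ψ N ΘJ) :
    pull (AbDual.bcMap j J) (lamCl (PicGrp.cls ΘJ hΘJ.1)) = pull (XTmap fX ((𝟙 J)⁻¹)) D.ξ := by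
  haveI := D.proper
  let K := AlgebraicClosure k
  let p : Spec (CommRingCat.of K) ⟶ Spec (CommRingCat.of k) := Spec.map (CommRingCat.ofHom (algebraMap k K))
  haveI : Surjective p := ⟨fun _ => ⟨IsLocalRing.closedPoint _, Subsingleton.elim _ _⟩⟩
  have hgK : Curv2.genus K (CK C p) = g := (CurveOmega.genus_bar k C).trans hg
  haveI : Smooth (Red.bc p J).hom := MorphismProperty.pullback_snd (P := @Smooth) _ _ ‹_›
  haveI : GeometricallyIntegral (Red.bc p J).hom :=
    MorphismProperty.pullback_snd (P := @GeometricallyIntegral) _ _ ‹_›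
  set L := PicGrp.cls ΘJ hΘJ.1 with hLdef
  set c := pull (AbDual.bcMap j J) (lamCl L) with hc
  have hbase : basePt fX σ.1 σ.2 ≫ j = η[J] :=
    Groth.Agent.PicCurve.abel_base fX σ.1 σ.2 hd J D.ξ D.classifies D.mul j D.abel
  have hrig : pull (secT fX σ.1 σ.2 J) c = 1 := by
    rw [hc]
    refine (pull_pull (secT fX σ.1 σ.2 J) (AbDual.bcMap j J) _).trans ?_
    have e : secT fX σ.1 σ.2 J ≫ AbDual.bcMap j J = (lift (1 : J ⟶ J) (𝟙 J)).left := by
      refine pullback.hom_ext ?_ ?_
      · rw [Category.assoc, AbDual.bcMap, pullback.lift_fst]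
        refine (Category.assoc _ _ _).symm.trans ?_
        rw [secT]
        erw [pullback.lift_fst]
        rw [Category.assoc]
        refine Eq.trans ?_ (congrArg CommaMorphism.left (lift_fst (1 : J ⟶ J) (𝟙 J))).symm
        rw [show σ.1 ≫ j.left = η[J].left from congrArg CommaMorphism.left hbase, Hom.one_def]
        exact congrArg (· ≫ η[J].left) ((Category.comp_id _).symm.trans (Over.w (toUnit J))).symm
      · rw [Category.assoc, AbDual.bcMap, pullback.lift_snd, Category.comp_id, secT]
        erw [pullback.lift_snd]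
        exact (congrArg CommaMorphism.left (lift_snd (1 : J ⟶ J) (𝟙 J))).symm
    rw [e]
    show val (lamCl L : PicLoc.PicSet (J ⊗ J).left) 1 (𝟙 J) = 1
    rw [val_lamCl', AVMukai.lam, _root_.one_mul, pc_one, inv_one, _root_.mul_one, mul_inv_cancel]
  let J' := Red.bc p J
  have hbar : pull (XTmap (fB fX p) ((𝟙 J')⁻¹)) (xiB fX p D.ξ) =
      upCl fX p J' (pull (XTmap fX (proj p)) c) := by
    have h := pull_bcMap_lamCl (dim_CK p hd) (jacK p D) (barCl p L)
      fun d => pull_theta_translate D hd hg hg1 ψ hψ hN hNdeg hΘJ p hgK d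
    refine h.symm.trans ?_
    rw [← lamCl_xtPr, hc, upCl]
    refine (pull_pull (AbDual.bcMap (abelB fX p j) J') (xtPr p J J) (lamCl L)).trans ?_
    refine Eq.trans ?_ (congrArg (pull (upIso fX p J').hom)
      (pull_pull (XTmap fX (proj p : downOver p J' ⟶ J)) (AbDual.bcMap j J) (lamCl L))).symm
    refine Eq.trans ?_ (pull_pull (upIso fX p J').hom _ (lamCl L)).symm
    exact congrArg (fun m => pull m (lamCl L)) (bcMap_xtPr p j)
  have hzero : Zero fX J c := by
    intro t
    haveI : Surjective (pullback.fst J.hom p) := MorphismProperty.pullback_fst (P := @Surjective) _ _ ‹_›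
    obtain ⟨t', ht'⟩ := (pullback.fst J.hom p).surjective t
    rw [← ht', show degC fX J c (pullback.fst J.hom p t') = degC fX J c ((proj p : downOver p J' ⟶ J).left t') from rfl,
      ← degC_pull fX (proj p) c t', ← degC_upCl fX p J', ← hbar, degC_pull]
    exact xiB_zero fX p D.ξ D.zero _
  obtain ⟨u, hu, -⟩ := D.classifies J c hrig hzero
  have hu' : (proj p : downOver p J' ⟶ J) ≫ u = (toDn p ((𝟙 J')⁻¹) : downOver p J' ⟶ J) := by
    have h1 : pull (XTmap fX (proj p : downOver p J' ⟶ J)) c =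
        pull (XTmap fX (toDn p ((𝟙 J')⁻¹) : downOver p J' ⟶ J)) D.ξ := by
      have h2 := congrArg (downCl fX p J') hbar
      rw [pull_xiB, down_up, down_up] at h2
      exact h2.symm
    obtain ⟨w, -, hw⟩ := D.classifies (downOver p J') (pull (XTmap fX (proj p)) c) (pull_secT (proj p) hrig)
      fun t => (degC_pull fX (proj p) c t).trans (hzero _)
    refine (hw _ ?_).trans (hw _ h1.symm).symm
    show pull (XTmap fX ((proj p : downOver p J' ⟶ J) ≫ u)) D.ξ = _
    rw [← S12404.XTmap_comp, ← pull_pull, hu]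
  have hinv : (toDn p ((𝟙 J')⁻¹) : downOver p J' ⟶ J) = proj p ≫ (𝟙 J)⁻¹ := by
    rw [GrpObj.comp_inv, Category.comp_id]
    let φ : (J' ⟶ J') →* (downOver p J' ⟶ J) := MonoidHom.mk' (fun m => toDn p m) (toDn_mul p)
    show φ (𝟙 J')⁻¹ = _
    rw [map_inv]
    exact congrArg _ (AgBC.toDn_id p)
  have hueq : u = (𝟙 J)⁻¹ := by
    haveI : Flat (pullback.fst J.hom p) := MorphismProperty.pullback_fst (P := @Flat) _ _ inferInstance
    haveI : Surjective (pullback.fst J.hom p) := MorphismProperty.pullback_fst (P := @Surjective) _ _ ‹_›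
    haveI : QuasiCompact (pullback.fst J.hom p) := MorphismProperty.pullback_fst (P := @QuasiCompact) _ _ inferInstance
    haveI := Flat.epi_of_flat_of_surjective (pullback.fst J.hom p)
    refine Over.OverMorphism.ext ((cancel_epi (pullback.fst J.hom p)).1 ?_)
    exact congrArg CommaMorphism.left (hu'.trans hinv)
  rw [← hu, hueq]

end Groth.Agent.PicTheta.Bar
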