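import Groth.Agent.PicTheta.ThetaCartier
import Groth.Agent.PicCurve.DivCorr
import Groth.Agent.Chev.BorelFixed

/-!
The universal class of the Jacobian from the Mumford class of the theta divisor.
-/

set_option autoImplicit false
set_option backward.isDefEq.respectTransparency false
set_option backward.isDefEq.respectTransparency.types false
set_option linter.style.haveILetI false
set_option linter.unusedSectionVars false
set_option maxHeartbeats 1000000

universe u

open CategoryTheory CategoryTheory.Limits AlgebraicGeometry TopologicalSpace MonoidalCategory CartesianMonoidalCategory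
open PicF
open scoped MonObj
open Groth.Agent.W7Cube (pull pull_pull pull_cls)
open Groth.Agent.SubGen (rpt exists_rpt rpt_mem_closedPoints map_rpt)
open Groth.Agent.PicCurve

attribute [local instance] Groth.Agent.W7Cube.law

noncomputable section

namespace Groth.Agent.PicTheta

variable {k : Type u} [Field k] {J : Over (Spec (CommRingCat.of k))} [GrpObj J]

variable (J) in
/-- The multiplication as a map of schemes. -/
abbrev muL : XT J.hom J ⟶ J.left := μ[J].left

/-- The class `m*L ⊗ p*L⁻¹ ⊗ q*L⁻¹` on `J × J`. -/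
def lamCl (L : PicLoc.PicSet J.left) : PicLoc.PicSet (XT J.hom J) :=
  pull (muL J) L *
    (pull (pullback.fst J.hom J.hom) L)⁻¹ * (pull (pullback.snd J.hom J.hom) L)⁻¹

variable (J) in
theorem transl_comp_inv [IsCommMonObj J] (x : (𝟙_ (Over (Spec (CommRingCat.of k)))) ⟶ J) :
    Jac.transl J x⁻¹ ≫ (𝟙 J)⁻¹ = reflect J x := by
  rw [GrpObj.comp_inv, Category.comp_id, reflect, Jac.transl, Jac.transl, MonObj.comp_mul, Category.comp_id,
    ← Category.assoc, toUnit_unique ((𝟙 J)⁻¹ ≫ toUnit J) (toUnit J), GrpObj.comp_inv, mul_inv, inv_inv]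

variable [IsAlgClosed k] {C : Scheme.{u}} [C.Over (Spec (CommRingCat.of k))]
  [IsProper (C ↘ Spec (CommRingCat.of k))] [Smooth (C ↘ Spec (CommRingCat.of k))]
  [GeometricallyConnected (C ↘ Spec (CommRingCat.of k))] [GeometricallyIrreducible (C ↘ Spec (CommRingCat.of k))]
  [SmoothOfRelativeDimension 1 (C ↘ Spec (CommRingCat.of k))] [IsIntegral C]
  (hd : topologicalKrullDim C = 1)

local notation "fX" => (C ↘ Spec (CommRingCat.of k))

variable [IsCommMonObj J] {σ : {τ : Spec (CommRingCat.of k) ⟶ C // τ ≫ (C ↘ Spec (CommRingCat.of k)) = 𝟙 _}}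
  {j : Over.mk (C ↘ Spec (CommRingCat.of k)) ⟶ J} (D : JacData σ J j)

/-- A map on the curve as a map of schemes. -/
abbrev onC (q : Over.mk (C ↘ Spec (CommRingCat.of k)) ⟶ J) : C ⟶ J.left := q.left

include hd D in
theorem abel_base : (Over.homMk σ.1 σ.2 : (𝟙_ (Over (Spec (CommRingCat.of k)))) ⟶ Over.mk fX) ≫ j = 1 :=
  D.cl_injective hd (by rw [D.cl_abel hd σ, mul_inv_cancel, map_one])

include hd in
/-- A class whose translates pull back along the Abel map to the inverse of the classes of the points gives the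
universal class. -/
theorem pull_lamCl_eq [Smooth J.hom] [GeometricallyIntegral J.hom] (L : PicLoc.PicSet J.left)
    (hL : ∀ d, pull (onC (j ≫ Jac.transl J d)) L = (D.cl d)⁻¹ * pull (onC j) L) :
    pull (XTmap fX ((𝟙 J)⁻¹) ≫ AbDual.bcMap j J) (lamCl L) = D.ξ := by
  haveI := D.proper
  haveI : Nonempty ↥J.left := ⟨η[J].left (IsLocalRing.closedPoint k)⟩
  haveI : Subsingleton ↥(Spec (CommRingCat.of k)) := inferInstanceAs (Subsingleton (PrimeSpectrum k))
  haveI : IsIntegral J.left := GeometricallyIntegral.isIntegral_of_subsingleton J.hom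
  set m := XTmap fX ((𝟙 J)⁻¹) ≫ AbDual.bcMap j J with hm
  clear_value m
  have m_fst : m ≫ pullback.fst J.hom J.hom = pullback.fst fX J.hom ≫ j.left := by
    rw [hm, Category.assoc, AbDual.bcMap, pullback.lift_fst, ← Category.assoc]
    exact congrArg (· ≫ j.left) (AbelMap.XTmap_fst fX _)
  have m_snd : m ≫ pullback.snd J.hom J.hom = pullback.snd fX J.hom ≫ ((𝟙 J)⁻¹).left := by
    rw [hm, Category.assoc, AbDual.bcMap, pullback.lift_snd, Category.comp_id]
    exact XTmap_proj fX _
  have m_mu : ∀ {A : Scheme.{u}} (u : A ⟶ XT fX J) {T : Over (Spec (CommRingCat.of k))} (e : T.left = A)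
      (p q : T ⟶ J), eqToHom e ≫ u ≫ pullback.fst fX J.hom ≫ j.left = p.left →
        eqToHom e ≫ u ≫ pullback.snd fX J.hom ≫ ((𝟙 J)⁻¹).left = q.left →
        eqToHom e ≫ u ≫ m ≫ muL J = (p * q).left := fun u T e p q hp hq => by
    subst e
    simp only [eqToHom_refl, Category.id_comp] at hp hq ⊢
    rw [Hom.mul_def, Over.comp_left, ← Category.assoc u m]
    refine congrArg (· ≫ μ[J].left) (pullback.hom_ext ?_ ?_)
    · rw [Category.assoc, m_fst]
      exact hp.trans (congrArg CommaMorphism.left (lift_fst p q)).symm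
    · rw [Category.assoc, m_snd]
      exact hq.trans (congrArg CommaMorphism.left (lift_snd p q)).symm
  set c := pull m (lamCl L) with hc
  have hrig : pull (secT fX σ.1 σ.2 J) c = 1 := by
    rw [hc, pull_pull, lamCl, map_mul, map_mul, map_inv, map_inv, pull_pull, pull_pull, pull_pull,
      Category.assoc, Category.assoc, Category.assoc]
    have hp : secT fX σ.1 σ.2 J ≫ pullback.fst fX J.hom ≫ j.left = (1 : J ⟶ J).left := by
      rw [← Category.assoc, secT, pullback.lift_fst, Category.assoc,
        show σ.1 ≫ j.left = (1 : (𝟙_ (Over (Spec (CommRingCat.of k)))) ⟶ J).left from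
          congrArg CommaMorphism.left (abel_base hd D),
        ← MonObj.comp_one (toUnit J), Over.comp_left]
      rfl
    have hq : secT fX σ.1 σ.2 J ≫ pullback.snd fX J.hom ≫ ((𝟙 J)⁻¹).left = ((𝟙 J)⁻¹).left := by
      rw [← Category.assoc, secT, pullback.lift_snd, Category.id_comp]
    have hμ := m_mu (secT fX σ.1 σ.2 J) (T := J) rfl 1 ((𝟙 J)⁻¹) (by rw [eqToHom_refl, Category.id_comp]; exact hp)
      (by rw [eqToHom_refl, Category.id_comp]; exact hq)
    rw [eqToHom_refl, Category.id_comp, one_mul] at hμ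
    rw [hμ, m_fst, m_snd, hp, hq, ← MonObj.comp_one (toUnit J), Over.comp_left, ← pull_pull,
      picSet_field_eq_one (pull ((1 : (𝟙_ (Over (Spec (CommRingCat.of k)))) ⟶ J).left : Spec (CommRingCat.of k) ⟶ J.left) L),
      map_one, inv_one, mul_one, mul_inv_cancel]
  have hcT : ∀ x : (𝟙_ (Over (Spec (CommRingCat.of k)))) ⟶ J, cT c (x : onePt k ⟶ J) = D.cl x := fun x => by
    rw [cT, hc, pull_pull, pull_pull, lamCl, map_mul, map_mul, map_inv, map_inv, pull_pull, pull_pull, pull_pull,
      Category.assoc, Category.assoc, Category.assoc, Category.assoc, Category.assoc]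
    set u := toPt k (X := C) ≫ XTmap fX (x : onePt k ⟶ J) with hu
    have hp : u ≫ pullback.fst fX J.hom ≫ j.left = j.left := by
      rw [hu, Category.assoc, ← Category.assoc (XTmap fX _), AbelMap.XTmap_fst, ← Category.assoc, toPt_fst,
        Category.id_comp]
    have hq : u ≫ pullback.snd fX J.hom ≫ ((𝟙 J)⁻¹).left = (toUnit (Over.mk fX) ≫ x⁻¹).left := by
      rw [hu, Category.assoc, ← Category.assoc (XTmap fX _),
        show XTmap fX (x : onePt k ⟶ J) ≫ pullback.snd fX J.hom = pullback.snd fX (onePt k).hom ≫ x.left from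
          XTmap_proj fX _,
        ← Category.assoc, ← Category.assoc, toPt, pullback.lift_snd, Category.assoc, ← Over.comp_left,
        GrpObj.comp_inv, Category.comp_id]
      rfl
    have hμ := m_mu u (T := Over.mk fX) rfl j (toUnit (Over.mk fX) ≫ x⁻¹)
      (by rw [eqToHom_refl, Category.id_comp]; exact hp) (by rw [eqToHom_refl, Category.id_comp]; exact hq)
    rw [eqToHom_refl, Category.id_comp] at hμ
    rw [show j * (toUnit (Over.mk fX) ≫ x⁻¹) = j ≫ Jac.transl J x⁻¹ by
      rw [Jac.transl, MonObj.comp_mul, Category.comp_id, ← Category.assoc,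
        toUnit_unique (j ≫ toUnit J) (toUnit (Over.mk fX))]] at hμ
    simp only [hu, Category.assoc] at hμ hp hq ⊢
    have hconst : pull (onC (toUnit (Over.mk fX) ≫ x⁻¹)) L = 1 := by
      rw [onC, Over.comp_left, ← pull_pull]
      exact (congrArg _ (picSet_field_eq_one (k := k) _)).trans (map_one _)
    rw [hμ, m_fst, m_snd, hp, hq]
    show pull (onC (j ≫ Jac.transl J x⁻¹)) L * (pull (onC j) L)⁻¹ *
      (pull (onC (toUnit (Over.mk fX) ≫ x⁻¹)) L)⁻¹ = _
    rw [hconst, inv_one, mul_one, hL, map_inv, inv_inv, mul_inv_cancel_right]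
  have hzero : Zero fX J c := by
    haveI : PreconnectedSpace ↥J.left := inferInstance
    refine zero_of_pointed fX hd J (1 : onePt k ⟶ J) c ?_
    have h := hcT 1
    rw [map_one, cT] at h
    refine (pull_fst_toPt k _).symm.trans ?_
    exact (congrArg _ h).trans (map_one _)
  obtain ⟨u, hu, -⟩ := D.classifies J c hrig hzero
  have hid : u = 𝟙 J := Chev.BorelFixed.hom_ext_rp fun x => D.cl_injective hd (by
    rw [Category.comp_id, D.cl_apply, ← S12404.XTmap_comp, ← pull_pull, hu]
    exact hcT x)
  rw [hid, XTmap_id, pull_id] at hu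
  exact hu.symm

include hd in
/-- The translates of the reflected theta divisor satisfy the hypothesis of `pull_lamCl_eq`. -/
theorem pull_transl_inv_theta [GeometricallyIntegral J.hom] {g : ℕ} (hg : Curv2.genus k C = g) (hg1 : 1 ≤ g)
    (hW : IsClosed (Set.range (sumMap j (g - 1)).left.base))
    (hI : BlowUp.IsEffCartierIdeal (Scheme.IdealSheafData.vanishingIdeal (X := J.left) ⟨_, hW⟩))
    (d : (𝟙_ (Over (Spec (CommRingCat.of k)))) ⟶ J) :
    pull (onC (j ≫ Jac.transl J d)) (pull ((𝟙 J)⁻¹).left (divCl _ hI)) =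
      (D.cl d)⁻¹ * pull (onC j) (pull ((𝟙 J)⁻¹).left (divCl _ hI)) := by
  have h1 : reflect J (1 : (𝟙_ (Over (Spec (CommRingCat.of k)))) ⟶ J) = (𝟙 J)⁻¹ := by
    rw [← transl_comp_inv, inv_one, transl_one, Category.id_comp]
  have key : ∀ a, pull (onC (j ≫ Jac.transl J a⁻¹)) (pull ((𝟙 J)⁻¹).left (divCl _ hI)) =
      D.cl a * delta k σ hd ^ g := fun a => by
    rw [pull_pull, ← pull_theta_eq hd D hg hg1 hW hI a, ← transl_comp_inv J a, ← Category.assoc]
    rfl
  have k1 : pull (onC j) (pull ((𝟙 J)⁻¹).left (divCl _ hI)) = delta k σ hd ^ g := by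
    have h := key 1
    rwa [inv_one, transl_one, Category.comp_id, map_one, one_mul] at h
  have h := key d⁻¹
  rw [inv_inv, map_inv] at h
  rw [h, k1]

end Groth.Agent.PicTheta
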