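import Groth.Agent.PicTheta.Intersect
import Groth.Agent.PicTheta.Poincare
import Groth.Agent.FrobSplit.Finrank

/-!
The theta locus of a degree `g - 1` class and the class of a translate of the theta divisor.
-/

set_option autoImplicit false
set_option backward.isDefEq.respectTransparency false
set_option backward.isDefEq.respectTransparency.types false
set_option linter.style.haveILetI false
set_option linter.unusedSectionVars false
set_option maxHeartbeats 1600000

universe u

open CategoryTheory CategoryTheory.Limits AlgebraicGeometry TopologicalSpace MonoidalCategory CartesianMonoidalCategory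
open PicF
open scoped MonObj
open Groth.Agent.W7Cube (pull pull_pull pull_cls)
open Groth.Agent.SubGen (rpt exists_rpt rpt_mem_closedPoints map_rpt)
open Groth.Agent.PicCurve

attribute [local instance] Groth.Agent.W7Cube.law

noncomputable section

namespace Groth.Agent.PicTheta

variable {k : Type u} [Field k] [IsAlgClosed k] {C : Scheme.{u}} [C.Over (Spec (CommRingCat.of k))]
  [IsProper (C ↘ Spec (CommRingCat.of k))] [Smooth (C ↘ Spec (CommRingCat.of k))]
  [GeometricallyConnected (C ↘ Spec (CommRingCat.of k))] [GeometricallyIrreducible (C ↘ Spec (CommRingCat.of k))]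
  [SmoothOfRelativeDimension 1 (C ↘ Spec (CommRingCat.of k))] [IsIntegral C]
  (hd : topologicalKrullDim C = 1)

local notation "fX" => (C ↘ Spec (CommRingCat.of k))

variable {σ : {τ : Spec (CommRingCat.of k) ⟶ C // τ ≫ (C ↘ Spec (CommRingCat.of k)) = 𝟙 _}} {J : Over (Spec (CommRingCat.of k))} [GrpObj J]
  [IsCommMonObj J] {j : Over.mk (C ↘ Spec (CommRingCat.of k)) ⟶ J} (D : JacData σ J j)

include hd D in
/-- A translate of the theta divisor: effective Cartier, with translates restricting to the classes of the points. -/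
theorem exists_translate_theta [Smooth J.hom] [GeometricallyIntegral J.hom] {g : ℕ} (hg : Curv2.genus k C = g) (hg1 : 1 ≤ g)
    (a : (𝟙_ (Over (Spec (CommRingCat.of k)))) ⟶ J) :
    ∃ hI : BlowUp.IsEffCartierIdeal (Scheme.IdealSheafData.vanishingIdeal (X := J.left)
        ⟨symSet j (g - 1) a, D.isClosed_symSet (g - 1) a⟩),
      ∀ d, pull (onC (j ≫ Jac.transl J d)) (divCl _ hI) = (D.cl d)⁻¹ * pull (onC j) (divCl _ hI) := by
  haveI := D.proper
  obtain ⟨κ, hκ⟩ := D.exists_cl hd (canonCl k hd * (delta k σ hd ^ (2 * g - 2))⁻¹) (by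
    have h := hC_sub k hd hg (canonCl k hd)
    rw [hC_one k hd (canonCl k hd), mul_inv_cancel, hC_one_zero] at h
    have h0 : hC k (canonCl k hd) 0 = g := by
      have h2 := hC_sub k hd hg (1 : PicLoc.PicSet C)
      rw [hC_one k hd (1 : PicLoc.PicSet C), inv_one, mul_one, hC_one_zero, degP_one' k hd] at h2
      omega
    rw [degP_mul k hd, degP_inv' k hd, degP_delta_pow k hd]
    omega)
  have hW : IsClosed (Set.range (sumMap j (g - 1)).left.base) :=
    symSet_one (j := j) (g - 1) ▸ D.isClosed_symSet (g - 1) 1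
  have hWe := isEffCartier_theta hd D hg hg1 hW
  have hiso : ∀ r : J ⟶ J, ∀ r' : J ⟶ J, r ≫ r' = 𝟙 J → r' ≫ r = 𝟙 J → IsIso r.left := fun r r' h h' =>
    ⟨r'.left, congrArg CommaMorphism.left h, congrArg CommaMorphism.left h'⟩
  haveI hr : ∀ e, IsIso (reflect J e).left := fun e => hiso _ _ (reflect_reflect e) (reflect_reflect e)
  have hset := fun e => symSet_eq_preimage hd D hg hg1 κ e hκ
  have hid : ∀ e, (Scheme.IdealSheafData.vanishingIdeal (X := J.left) ⟨_, hW⟩).comap (reflect J (e * κ)).left =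
      Scheme.IdealSheafData.vanishingIdeal (X := J.left) ⟨symSet j (g - 1) e, D.isClosed_symSet (g - 1) e⟩ :=
    fun e => by
      haveI := hr (e * κ)
      rw [vanishingIdeal_comap_iso (reflect J (e * κ)).left hW]
      exact congrArg _ (Closeds.ext (hset e).symm)
  have he : ∀ e, BlowUp.IsEffCartierIdeal (Scheme.IdealSheafData.vanishingIdeal (X := J.left)
      ⟨symSet j (g - 1) e, D.isClosed_symSet (g - 1) e⟩) := fun e => by
    haveI := hr (e * κ)
    exact hid e ▸ BlowUpLib.cartier_comap_flat hWe _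
  have hcl : ∀ e, divCl _ (he e) = pull (reflect J (e * κ)).left (divCl _ hWe) := fun e => by
    rw [pull_divCl _ hWe (by rw [hid e]; exact he e)]
    exact divCl_congr (hid e).symm _ _
  have htr : ∀ b e, pull (Jac.transl J b).left (divCl _ (he e)) = divCl _ (he (e * b⁻¹)) := fun b e => by
    haveI : IsIso (Jac.transl J b).left := hiso _ (Jac.transl J b⁻¹) (by rw [transl_comp, mul_inv_cancel, transl_one])
      (by rw [transl_comp, inv_mul_cancel, transl_one])
    have hi : (Scheme.IdealSheafData.vanishingIdeal (X := J.left)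
        ⟨symSet j (g - 1) e, D.isClosed_symSet (g - 1) e⟩).comap (Jac.transl J b).left =
        Scheme.IdealSheafData.vanishingIdeal (X := J.left)
          ⟨symSet j (g - 1) (e * b⁻¹), D.isClosed_symSet (g - 1) (e * b⁻¹)⟩ := by
      rw [vanishingIdeal_comap_iso _ (D.isClosed_symSet (g - 1) e)]
      refine congrArg _ (Closeds.ext (eq_of_rpt ((D.isClosed_symSet (g - 1) e).preimage
        (Jac.transl J b).left.continuous) (D.isClosed_symSet (g - 1) (e * b⁻¹)) fun x => ?_))
      show (Jac.transl J b).left (rpt x) ∈ symSet j (g - 1) e ↔ rpt x ∈ symSet j (g - 1) (e * b⁻¹)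
      rw [map_rpt, rp_transl, D.mem_symSet hd, D.mem_symSet hd, map_mul, map_mul, map_inv, mul_inv_rev, inv_inv,
        mul_assoc (D.cl x) (D.cl b)]
    rw [pull_divCl _ (he e) (by rw [hi]; exact he _)]
    exact divCl_congr hi _ _
  have key : ∀ d, pull (onC (j ≫ Jac.transl J d)) (divCl _ (he a)) = D.cl (a * d⁻¹ * κ) * delta k σ hd ^ g :=
    fun d => by
      rw [onC, Over.comp_left, ← pull_pull, htr, hcl, pull_pull, ← Over.comp_left]
      exact pull_theta_eq hd D hg hg1 hW hWe _
  refine ⟨he a, fun d => ?_⟩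
  have k1 : pull (onC j) (divCl _ (he a)) = D.cl (a * κ) * delta k σ hd ^ g := by
    have h := key 1
    rwa [transl_one, Category.comp_id, inv_one, mul_one] at h
  rw [key, k1, map_mul, map_mul, map_mul, map_inv]
  apply Additive.ofMul.injective; simp only [ofMul_mul, ofMul_inv]; abel

include hd D in
/-- The theta locus of a class of degree `g - 1` is the translate of the image of the powers of the curve. -/
theorem thetaLocus_eq (ψ : (ModFun.PicDeg fX 0).Hom ⊤ J)
    (hψ : ∀ (T : Over (Spec (CommRingCat.of k))) (x : (XT fX T).Modules) (hx : (ModFun.PicDeg fX 0).ok T x)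
        (hxi : PicF.IsInvertible x) (v : T ⟶ J),
        ψ.app T x trivial hx = v ↔ pull (XTmap fX v) D.ξ = rigify fX σ.1 σ.2 T (PicGrp.cls x hxi))
    {N : C.Modules} (hN : PicF.IsInvertible N) (r : ℕ) (a : (𝟙_ (Over (Spec (CommRingCat.of k)))) ⟶ J)
    (ha : (D.cl a)⁻¹ * delta k σ hd ^ r = PicGrp.cls N hN) :
    Jac.thetaLocus fX 0 ψ N = symSet j r a := by
  haveI := D.proper
  haveI : Smooth (XTproj fX J) := SmoothOfRelativeDimension.smooth 1 _
  obtain ⟨M, hM, hMc⟩ := PicGrp.exists_eq_cls (D.ξ * pull (pullback.fst fX J.hom) (PicGrp.cls N hN))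
  let Z : Set J.left := {y | PerfAux.betti (XTproj fX J) M y 0 < 1}ᶜ
  have hZ : IsClosed Z := (Groth.Agent.S1025.result (XTproj fX J) M (W7Hull.isFP_of_isInvertible hM)
    (W7Hull.isFlatOver_of_isInvertible _ hM) 0 1).isClosed_compl
  have hrat : ∀ x : (𝟙_ (Over (Spec (CommRingCat.of k)))) ⟶ J, rpt x ∈ Z ↔ rpt x ∈ symSet j r a := fun x => by
    rw [D.mem_symSet hd, mul_assoc, ha]
    show ¬ (PerfAux.betti (XTproj fX J) M (rpt x) 0 < 1) ↔ _
    obtain ⟨L, hL, hLc⟩ := PicGrp.exists_eq_cls (cT (D.ξ * pull (pullback.fst fX J.hom) (PicGrp.cls N hN)) (x : onePt k ⟶ J))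
    have hc : PicGrp.cls _ (PicLoc.isInvertible_pullback (XTmap fX (x : onePt k ⟶ J)) hM) =
        PicGrp.cls _ (PicLoc.isInvertible_pullback (pullback.fst fX (onePt k).hom) hL) := by
      rw [← pull_cls _ M hM, ← pull_cls _ L hL, ← hMc, ← hLc]
      exact (pull_fst_toPt k _).symm
    obtain ⟨e⟩ := (PicGrp.cls_eq_cls_iff _ _).1 hc
    have hb : PerfAux.betti (XTproj fX J) M (rpt x) 0 = hC k (D.cl x * PicGrp.cls N hN) 0 := by
      have h1 := PicSmooth.betti_of_isPullback (PicFam.isPullback_XTmap fX (x : onePt k ⟶ J)) M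
        (TMul.isQCoh_of_isInvertible hM) (IsLocalRing.closedPoint k : (onePt k).left) 0
      refine h1.symm.trans ?_
      refine ((PicSmooth.betti_iso _ e _ _).trans (PicSmooth.betti_of_isPullback
        (IsPullback.of_hasPullback fX (onePt k).hom) L (TMul.isQCoh_of_isInvertible hL)
        (IsLocalRing.closedPoint k : (onePt k).left) 0)).trans ?_
      rw [AbelMap.betti_field (TMul.isQCoh_of_isInvertible hL), ← hC_cls k hL, ← hLc, cT_xi]
    rw [hb]
    omega
  have hjZ : Jac.jumpLocus fX 0 ψ N ⊆ Z := by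
    rintro m ⟨Ω, _, _, t, hP, L, hok, hne, p, rfl⟩
    have hLi : PicF.IsInvertible L := ZeroSch.isInvertible_of_rankOne hok.1.2
    let T : Over (Spec (CommRingCat.of k)) := Over.mk t
    let v : T ⟶ J := ψ.app T L hP hok
    have hv := (hψ T L hok hLi v).1 rfl
    have hLv : PicGrp.cls L hLi = pull (XTmap fX v) D.ξ := by
      rw [hv, rigify, show pull (secT fX σ.1 σ.2 T) (PicGrp.cls L hLi) = 1 from picSet_field_eq_one (k := Ω) _,
        inv_one, map_one, mul_one]
    show ¬ (PerfAux.betti (XTproj fX J) M (v.left p) 0 < 1)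
    have hNi := PicLoc.isInvertible_pullback (pullback.fst fX t) hN
    have hE := TMul.isInvertible_tensorMod hLi hNi
    have hc : PicGrp.cls _ (PicLoc.isInvertible_pullback (XTmap fX v) hM) = PicGrp.cls _ hE := by
      rw [← pull_cls _ M hM, ← hMc, map_mul, ← hLv, pull_pull, AbelMap.XTmap_fst]
      exact (congrArg (PicGrp.cls L hLi * ·) (pull_cls (pullback.fst fX t) N hN)).trans rfl
    obtain ⟨e⟩ := (PicGrp.cls_eq_cls_iff _ _).1 hc
    rw [← PicSmooth.betti_of_isPullback (PicFam.isPullback_XTmap fX v) M (TMul.isQCoh_of_isInvertible hM) p 0,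
      PicSmooth.betti_iso _ e]
    letI : (XT fX T).Over (Spec (CommRingCat.of Ω)) := ⟨XTproj fX T⟩
    haveI : IsProper (XT fX T ↘ Spec (CommRingCat.of Ω)) := inferInstanceAs (IsProper (XTproj fX T))
    haveI := FrobSplit.finite_hh Ω (XT fX T) hE 0
    have hb := AbelMap.betti_field (TMul.isQCoh_of_isInvertible hE) p 0
    rw [show PerfAux.betti (XTproj fX T) _ p 0 = _ from hb]
    haveI := not_subsingleton_iff_nontrivial.1 hne
    exact not_lt.2 (Module.finrank_pos (R := Ω))
  refine eq_of_rpt isClosed_closure (D.isClosed_symSet r a) fun x => ⟨fun hx => (hrat x).1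
    (closure_minimal hjZ hZ hx), fun hx => subset_closure ?_⟩
  have hx1 := hx
  rw [D.mem_symSet hd, mul_assoc, ha] at hx1
  obtain ⟨L, hL, hLc⟩ := PicGrp.exists_eq_cls D.ξ
  let x' : onePt k ⟶ J := x
  have hLx := PicLoc.isInvertible_pullback (XTmap fX x') hL
  have hok : (ModFun.PicDeg fX 0).ok (onePt k) ((Scheme.Modules.pullback (XTmap fX x')).obj L) :=
    ⟨⟨trivial, CurveRR.isFinLocFreeOfRank_one hLx⟩, (ok_iff fX hd 0 (onePt k) hLx).2 fun t => by
      rw [← pull_cls (XTmap fX x') L hL, ← hLc, degC_pull]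
      exact D.zero _⟩
  refine ⟨k, inferInstance, inferInstance, (onePt k).hom, trivial, _, hok, ?_, IsLocalRing.closedPoint k, ?_⟩
  · have hNi := PicLoc.isInvertible_pullback (pullback.fst fX (onePt k).hom) hN
    have hE := TMul.isInvertible_tensorMod hLx hNi
    intro hsub
    obtain ⟨E₀, hE₀, hE₀c⟩ := PicGrp.exists_eq_cls (D.cl x * PicGrp.cls N hN)
    have hc : PicGrp.cls _ (PicLoc.isInvertible_pullback (toPt k) hE) = PicGrp.cls E₀ hE₀ := by
      rw [← pull_cls _ _ hE, show PicGrp.cls _ hE = PicGrp.cls _ hLx * PicGrp.cls _ hNi from rfl, map_mul,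
        ← pull_cls (XTmap fX x') L hL, ← hLc, ← pull_cls (pullback.fst fX (onePt k).hom) N hN, pull_toPt_fst,
        ← hE₀c, D.cl_apply]
      rfl
    obtain ⟨e⟩ := (PicGrp.cls_eq_cls_iff _ _).1 hc
    rw [hE₀c, hC_cls] at hx1
    haveI : IsIso (toPt k (X := C)) := ⟨pullback.fst fX (onePt k).hom, toPt_fst k, fst_toPt k⟩
    have := CohQC.hh_subsingleton_of_iso e 0 (TwistOverVan.subsingleton_hh_pullback_iso (toPt k) _
      (TMul.isQCoh_of_isInvertible hE) 0 hsub)
    rw [CurveRR.h_eq_zero this] at hx1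
    omega
  · exact congrArg (fun v : onePt k ⟶ J => v.left (IsLocalRing.closedPoint k))
      ((hψ (onePt k) _ hok hLx x').2 (by
        rw [← pull_cls (XTmap fX x') L hL, ← hLc, rigify_of_mem fX σ.1 σ.2 (pull_secT x' D.mem)]))

end Groth.Agent.PicTheta
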