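import Groth.Agent.PicTheta.BarJac
import Groth.Agent.PicTheta.ThetaLocus
import Groth.Agent.S4667
import Groth.Agent.RedKer.Basic

/-!
The theta locus of the Jacobian of a curve over any field, and its trace on an algebraically closed extension.
-/

set_option autoImplicit false
set_option backward.isDefEq.respectTransparency false
set_option backward.isDefEq.respectTransparency.types false
set_option linter.style.haveILetI false
set_option linter.unusedSectionVars false
set_option maxHeartbeats 1600000

universe u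

open CategoryTheory CategoryTheory.Limits AlgebraicGeometry TopologicalSpace MonoidalCategory CartesianMonoidalCategory
open PicF
open scoped MonObj
open Groth.Agent.W7Cube (pull pull_pull pull_cls)
open Groth.Agent.SubGen (rpt)
open Groth.Agent.PicCurve
open Groth.Agent.AgBC (toDn toDn_left toDn_mul)

attribute [local instance] Groth.Agent.W7Cube.law

noncomputable section

namespace Groth.Agent.PicTheta.Bar

section Curve

variable {k K : Type u} [Field k] [Field K] {C : Scheme.{u}} [C.Over (Spec (CommRingCat.of k))]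
  [IsProper (C ↘ Spec (CommRingCat.of k))] [SmoothOfRelativeDimension 1 (C ↘ Spec (CommRingCat.of k))]
  [GeometricallyConnected (C ↘ Spec (CommRingCat.of k))] (p : Spec (CommRingCat.of K) ⟶ Spec (CommRingCat.of k))

local notation "fX" => (C ↘ Spec (CommRingCat.of k))

variable (C) in
/-- The curve over the extension. -/
abbrev CK : Scheme.{u} := pullback (C ↘ Spec (CommRingCat.of k)) p

instance overCK : (CK C p).Over (Spec (CommRingCat.of K)) := ⟨fB (C ↘ Spec (CommRingCat.of k)) p⟩

theorem over_CK : (CK C p ↘ Spec (CommRingCat.of K)) = fB fX p := rfl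

instance isProper_CK : IsProper (CK C p ↘ Spec (CommRingCat.of K)) := isProper_fB fX p

instance smooth1_CK : SmoothOfRelativeDimension 1 (CK C p ↘ Spec (CommRingCat.of K)) :=
  inferInstanceAs (SmoothOfRelativeDimension 1 (fB fX p))

instance smooth_CK : Smooth (CK C p ↘ Spec (CommRingCat.of K)) := SmoothOfRelativeDimension.smooth 1 _

instance geomConn_CK : GeometricallyConnected (CK C p ↘ Spec (CommRingCat.of K)) := geomConn_fB fX p

instance geomInt_CK : GeometricallyIntegral (CK C p ↘ Spec (CommRingCat.of K)) :=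
  ClosedRep.GeomIntegral.geometricallyIntegral_of_smooth _

instance geomIrr_CK : GeometricallyIrreducible (CK C p ↘ Spec (CommRingCat.of K)) := inferInstance

instance isIntegral_CK : IsIntegral (CK C p) :=
  haveI : Subsingleton ↥(Spec (CommRingCat.of K)) := inferInstanceAs (Subsingleton (PrimeSpectrum K))
  GeometricallyIntegral.isIntegral_of_subsingleton (CK C p ↘ Spec (CommRingCat.of K))

theorem dim_CK [IsAlgClosed K] (hd : topologicalKrullDim C = 1) : topologicalKrullDim (CK C p) = 1 :=
  (curve_pt fX (fun z => (dim_fiber_spec fX z).trans hd) p).1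

/-- The base point over the extension. -/
abbrev secK (σ : Spec (CommRingCat.of k) ⟶ C) (hσ : σ ≫ (C ↘ Spec (CommRingCat.of k)) = 𝟙 _) :
    {τ : Spec (CommRingCat.of K) ⟶ CK C p // τ ≫ (CK C p ↘ Spec (CommRingCat.of K)) = 𝟙 _} :=
  ⟨σB (C ↘ Spec (CommRingCat.of k)) σ hσ p, σB_proj (C ↘ Spec (CommRingCat.of k)) σ hσ p⟩

variable [Smooth (C ↘ Spec (CommRingCat.of k))]

theorem pull_fst_delta [IsAlgClosed K] (hd : topologicalKrullDim C = 1) (σ : Spec (CommRingCat.of k) ⟶ C)
    (hσ : σ ≫ fX = 𝟙 _) :
    pull (pullback.fst fX p) (delta k ⟨σ, hσ⟩ hd) = delta K (secK p σ hσ) (dim_CK p hd) := by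
  have hs : IsPullback p (σB fX σ hσ p) σ (pullback.fst fX p) := by
    refine IsPullback.of_bot ?_ (pullback.lift_fst _ _ _).symm (IsPullback.of_hasPullback fX p)
    rw [σB_proj, hσ]
    exact IsPullback.of_vert_isIso ⟨by rw [Category.comp_id, Category.id_comp]⟩
  haveI : IsClosedImmersion σ := by
    haveI : IsClosedImmersion (σ ≫ fX) := by rw [hσ]; infer_instance
    exact IsClosedImmersion.of_comp σ fX
  have hk := AlmostBlow.ker_of_isPullback hs
  have h : BlowUp.IsEffCartierIdeal (σ.ker.comap (pullback.fst fX p)) := hk ▸ effCartier_rat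
    (CK C p ↘ Spec (CommRingCat.of K)) ⟨isProper_CK p, smooth_CK p, isIntegral_CK p, dim_CK p hd⟩ _ (σB_proj fX σ hσ p)
  rw [delta, delta, pull_divCl _ _ h]
  exact divCl_congr hk.symm _ _

end Curve

section Jac

variable {k K : Type u} [Field k] [Field K] {C : Scheme.{u}} [C.Over (Spec (CommRingCat.of k))]
  [IsProper (C ↘ Spec (CommRingCat.of k))] [SmoothOfRelativeDimension 1 (C ↘ Spec (CommRingCat.of k))]
  [GeometricallyConnected (C ↘ Spec (CommRingCat.of k))] [Smooth (C ↘ Spec (CommRingCat.of k))]

local notation "fX" => (C ↘ Spec (CommRingCat.of k))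

variable {σ : {τ : Spec (CommRingCat.of k) ⟶ C // τ ≫ (C ↘ Spec (CommRingCat.of k)) = 𝟙 _}}
  {J : Over (Spec (CommRingCat.of k))} [GrpObj J] {j : Over.mk (C ↘ Spec (CommRingCat.of k)) ⟶ J}
  (p : Spec (CommRingCat.of K) ⟶ Spec (CommRingCat.of k)) (D : JacData σ J j)

/-- The class data over the extension. -/
def jacK : JacData (secK p σ.1 σ.2) (Red.bc p J) (abelB (C ↘ Spec (CommRingCat.of k)) p j) where
  ξ := xiB (C ↘ Spec (CommRingCat.of k)) p D.ξ
  proper := haveI := D.proper; inferInstanceAs (IsProper (pullback.snd J.hom p))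
  mem := xiB_mem fX σ.1 σ.2 p D.ξ D.mem
  zero := xiB_zero fX p D.ξ D.zero
  classifies := xiB_classifies fX σ.1 σ.2 p D.ξ D.classifies
  mul := xiB_mul fX p D.ξ D.mul
  abel := xiB_abel fX σ.1 σ.2 p D.ξ j D.abel

/-- The class of a rational point of the Jacobian over any field. -/
def clk (a : (𝟙_ (Over (Spec (CommRingCat.of k)))) ⟶ J) : PicLoc.PicSet C :=
  pull (toPt k) (pull (XTmap (C ↘ Spec (CommRingCat.of k)) (a : onePt k ⟶ J)) D.ξ)

/-- A point with values in the extension as a rational point of the extended Jacobian. -/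
def xOf (v : Over.mk p ⟶ J) : (𝟙_ (Over (Spec (CommRingCat.of K)))) ⟶ Red.bc p J :=
  Over.homMk (pullback.lift v.left (𝟙 _) ((Over.w v).trans (Category.id_comp p).symm)) (pullback.lift_snd _ _ _)

theorem xOf_fst (v : Over.mk p ⟶ J) : (xOf p v).left ≫ pullback.fst J.hom p = v.left := pullback.lift_fst _ _ _

theorem rpt_xOf (v : Over.mk p ⟶ J) :
    pullback.fst J.hom p (rpt (xOf p v)) = v.left (IsLocalRing.closedPoint K : (Over.mk p).left) := by
  show ((xOf p v).left ≫ pullback.fst J.hom p) _ = _
  rw [xOf_fst]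
  rfl

theorem cl_xOf (v : Over.mk p ⟶ J) : (jacK p D).cl (xOf p v) = pull (XTmap fX v) D.ξ := by
  show pull (toPt K) (pull (XTmap (fB fX p) (xOf p v)) (xiB fX p D.ξ)) = _
  rw [pull_xiB, upCl, pull_pull]
  refine (pull_pull (toPt K) _ D.ξ).trans ?_
  refine congrArg (fun m : CK C p ⟶ XT fX J => pull m D.ξ) (pullback.hom_ext ?_ ?_)
  · rw [Category.assoc, Category.assoc, AbelMap.XTmap_fst, upIso_fst, ← Category.assoc]
    refine (congrArg (· ≫ pullback.fst fX p) (show toPt K (X := CK C p) ≫ _ = _ from toPt_fst K)).trans ?_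
    rw [Category.id_comp]
    exact (AbelMap.XTmap_fst fX v).symm
  · show (_ ≫ _) ≫ XTproj fX J = XTmap fX v ≫ XTproj fX J
    rw [Category.assoc, Category.assoc, XTmap_proj, XTmap_proj, ← Category.assoc (upIso _ _ _).hom, upIso_proj,
      toDn_left]
    show toPt K ≫ pullback.snd _ _ ≫ _ = _
    rw [← Category.assoc, toPt, pullback.lift_snd, xOf_fst]
    rfl

theorem XTmap_toUnit (T : Over (Spec (CommRingCat.of k))) :
    XTmap fX (toUnit T : T ⟶ onePt k) = pullback.fst fX T.hom ≫ toPt k := by
  let u : T ⟶ onePt k := toUnit T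
  show XTmap fX u = _
  refine pullback.hom_ext ?_ ?_
  · refine (AbelMap.XTmap_fst fX u).trans ?_
    exact ((Category.assoc _ _ _).trans (by rw [toPt_fst, Category.comp_id])).symm
  · refine (XTmap_proj fX u).trans ?_
    rw [show u.left = T.hom from (Category.comp_id _).symm.trans (Over.w u)]
    exact ((Category.assoc _ _ _).trans (by rw [toPt, pullback.lift_snd]; exact pullback.condition)).symm

/-- A rational point over the extension. -/
abbrev ptK (a : (𝟙_ (Over (Spec (CommRingCat.of k)))) ⟶ J) : (𝟙_ (Over (Spec (CommRingCat.of K)))) ⟶ Red.bc p J :=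
  xOf p (toUnit (Over.mk p) ≫ a)

theorem cl_ptK (a : (𝟙_ (Over (Spec (CommRingCat.of k)))) ⟶ J) :
    (jacK p D).cl (ptK p a) = pull (pullback.fst fX p) (clk D a) := by
  rw [ptK, cl_xOf, ← S12404.XTmap_comp, ← pull_pull]
  show pull (XTmap fX (toUnit (Over.mk p) : Over.mk p ⟶ onePt k)) (pull (XTmap fX (a : onePt k ⟶ J)) D.ξ) = _
  rw [XTmap_toUnit, clk]
  exact (pull_pull (pullback.fst fX p) (toPt k) _).symm

variable [IsCommMonObj J]

variable (j) in
/-- The sum map followed by a translation. -/
abbrev qMap (r : ℕ) (a : (𝟙_ (Over (Spec (CommRingCat.of k)))) ⟶ J) :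
    Over.mk (WidePullback.base fun (_ : Fin r) => (C ↘ Spec (CommRingCat.of k))) ⟶ J :=
  sumMap j r ≫ Jac.transl J a

theorem qMap_eq (r : ℕ) (a : (𝟙_ (Over (Spec (CommRingCat.of k)))) ⟶ J) :
    qMap j r a = sumMap j r * (toUnit _ ≫ a) := by
  rw [qMap, Jac.transl, MonObj.comp_mul, Category.comp_id, ← Category.assoc,
    toUnit_unique (sumMap j r ≫ toUnit J) (toUnit _)]

/-- The projection of the extended power to the power. -/
def rho (r : ℕ) : downOver p (Over.mk (WidePullback.base fun (_ : Fin r) => (CK C p ↘ Spec (CommRingCat.of K)))) ⟶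
    Over.mk (WidePullback.base fun (_ : Fin r) => (C ↘ Spec (CommRingCat.of k))) :=
  Over.homMk (WidePullback.lift
    ((WidePullback.base fun (_ : Fin r) => (CK C p ↘ Spec (CommRingCat.of K))) ≫ p)
    (fun i => WidePullback.π (fun (_ : Fin r) => (CK C p ↘ Spec (CommRingCat.of K))) i ≫
      pullback.fst (C ↘ Spec (CommRingCat.of k)) p)
    (fun i => by
      rw [Category.assoc, pullback.condition, ← Category.assoc]
      exact congrArg (· ≫ p) (WidePullback.π_arrow (fun (_ : Fin r) => (CK C p ↘ Spec (CommRingCat.of K))) i)))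
    (WidePullback.lift_base _ _ _ _)

/-- The extension of the power to the power of the extension. -/
def theta (r : ℕ) : Red.bc p (Over.mk (WidePullback.base fun (_ : Fin r) => (C ↘ Spec (CommRingCat.of k)))) ⟶
    Over.mk (WidePullback.base fun (_ : Fin r) => (CK C p ↘ Spec (CommRingCat.of K))) :=
  Over.homMk (WidePullback.lift (pullback.snd _ p)
    (fun i => pullback.lift (pullback.fst _ p ≫ WidePullback.π (fun (_ : Fin r) => (C ↘ Spec (CommRingCat.of k))) i)
      (pullback.snd _ p) (by
        rw [Category.assoc, WidePullback.π_arrow]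
        exact pullback.condition))
    (fun i => pullback.lift_snd _ _ _))
    (WidePullback.lift_base _ _ _ _)

theorem theta_rho (r : ℕ) : downMap p (theta (C := C) p r) ≫ rho p r = proj p := by
  refine Over.OverMorphism.ext (WidePullback.hom_ext _ _ _ (fun i => ?_) ?_)
  · show ((theta p r).left ≫ (rho p r).left) ≫ _ = pullback.fst _ p ≫ _
    refine (Category.assoc _ _ _).trans ((congrArg (_ ≫ ·) (WidePullback.lift_π _ _ _ _ i)).trans ?_)
    refine (Category.assoc _ _ _).symm.trans ?_
    exact (congrArg (· ≫ pullback.fst fX p) (WidePullback.lift_π _ _ _ _ i)).trans (pullback.lift_fst _ _ _)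
  · show ((theta p r).left ≫ (rho p r).left) ≫ _ = pullback.fst _ p ≫ _
    refine (Category.assoc _ _ _).trans ((congrArg (_ ≫ ·) (WidePullback.lift_base _ _ _ _)).trans ?_)
    refine (Category.assoc _ _ _).symm.trans ?_
    exact (congrArg (· ≫ p) (WidePullback.lift_base _ _ _ _)).trans pullback.condition.symm

theorem toDn_qMap (r : ℕ) (a : (𝟙_ (Over (Spec (CommRingCat.of k)))) ⟶ J) :
    (toDn p (qMap (abelB fX p j) r (ptK p a)) : downOver p _ ⟶ J) = rho p r ≫ qMap j r a := by
  rw [qMap_eq, qMap_eq, toDn_mul, MonObj.comp_mul]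
  refine congrArg₂ (· * ·) ?_ ?_
  · let W := Over.mk (WidePullback.base fun (_ : Fin r) => (CK C p ↘ Spec (CommRingCat.of K)))
    let φ : (W ⟶ Red.bc p J) →* (downOver p W ⟶ J) := MonoidHom.mk' (fun m => toDn p m) (toDn_mul p)
    let pre : (Over.mk (WidePullback.base fun (_ : Fin r) => fX) ⟶ J) →* (downOver p W ⟶ J) :=
      MonoidHom.mk' (fun m => rho p r ≫ m) (MonObj.comp_mul _)
    show φ _ = pre _
    rw [sumMap, sumMap, List.prod_ofFn, List.prod_ofFn, map_prod, map_prod]
    refine Finset.prod_congr rfl fun i _ => Over.OverMorphism.ext ?_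
    show (toDn p _).left = (rho p r).left ≫ _ ≫ j.left
    rw [toDn_left, Over.comp_left, Category.assoc, abelB_fst]
    refine (Category.assoc _ _ _).symm.trans ?_
    refine (congrArg (· ≫ j.left) ?_).trans (Category.assoc _ _ _)
    show WidePullback.π (fun (_ : Fin r) => (CK C p ↘ Spec (CommRingCat.of K))) i ≫ pullback.fst fX p =
      WidePullback.lift ((WidePullback.base fun (_ : Fin r) => (CK C p ↘ Spec (CommRingCat.of K))) ≫ p)
        (fun i => WidePullback.π (fun (_ : Fin r) => (CK C p ↘ Spec (CommRingCat.of K))) i ≫ pullback.fst fX p) _ ≫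
        WidePullback.π (fun (_ : Fin r) => fX) i
    rw [WidePullback.lift_π]
  · refine Over.OverMorphism.ext ?_
    rw [toDn_left, Over.comp_left, Category.assoc, xOf_fst, Over.comp_left, Over.comp_left, Over.comp_left]
    have h1 : ∀ {S : Scheme.{u}} (T : Over S), (toUnit T).left = T.hom := fun T =>
      (Category.comp_id _).symm.trans (Over.w (toUnit T))
    rw [h1, h1, h1]
    exact ((Category.assoc _ _ _).symm.trans (congrArg (· ≫ a.left) (Over.w (rho p r)).symm)).trans
      (Category.assoc _ _ _)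

theorem theta_qMap (r : ℕ) (a : (𝟙_ (Over (Spec (CommRingCat.of k)))) ⟶ J) :
    theta p r ≫ qMap (abelB fX p j) r (ptK p a) = (Over.pullback p).map (qMap j r a) := by
  refine ((Over.mapPullbackAdj p).homEquiv _ _).symm.injective ?_
  show toDn p _ = toDn p _
  rw [AgBC.toDn_comp, toDn_qMap]
  refine Eq.trans (show _ = (downMap p (theta p r) ≫ rho p r) ≫ qMap j r a from (Category.assoc _ _ _).symm) ?_
  rw [theta_rho]
  refine Over.OverMorphism.ext ?_
  rw [toDn_left]
  exact (pullback.lift_fst _ _ _).symm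

theorem qMap_sq {W : Over (Spec (CommRingCat.of k))} (q : W ⟶ J) :
    IsPullback (pullback.fst W.hom p) ((Over.pullback p).map q).left q.left (pullback.fst J.hom p) := by
  refine IsPullback.of_bot ?_ (pullback.lift_fst _ _ _).symm (IsPullback.of_hasPullback J.hom p)
  rw [Over.w q]
  exact (Over.w ((Over.pullback p).map q)).symm ▸ IsPullback.of_hasPullback W.hom p

theorem range_map {W : Over (Spec (CommRingCat.of k))} (q : W ⟶ J) :
    Set.range ((Over.pullback p).map q).left = pullback.fst J.hom p ⁻¹' Set.range q.left := by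
  rw [← Scheme.Pullback.range_snd, ← (qMap_sq p q).isoPullback_hom_snd]
  exact Function.Surjective.range_comp (qMap_sq p q).isoPullback.hom.surjective _

/-- The translated power over the extension is the preimage of the translated power. -/
theorem symSet_eq (r : ℕ) (a : (𝟙_ (Over (Spec (CommRingCat.of k)))) ⟶ J) :
    symSet (abelB fX p j) r (ptK p a) = pullback.fst J.hom p ⁻¹' Set.range (qMap j r a).left := by
  have hs : symSet (abelB fX p j) r (ptK p a) = Set.range (qMap (abelB fX p j) r (ptK p a)).left := by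
    rw [symSet, ← Set.range_comp]
    rfl
  rw [hs]
  refine subset_antisymm ?_ ?_
  · rintro _ ⟨w, rfl⟩
    refine ⟨(rho p r).left w, ?_⟩
    rw [← Scheme.Hom.comp_apply, ← Over.comp_left, ← toDn_qMap, toDn_left]
    rfl
  · rw [← range_map, ← theta_qMap, Over.comp_left]
    rintro _ ⟨w, rfl⟩
    exact ⟨(theta p r).left w, (Scheme.Hom.comp_apply _ _ _).symm⟩

end Jac

section Locus

variable {k : Type u} [Field k] {C : Scheme.{u}} [C.Over (Spec (CommRingCat.of k))]
  [IsProper (C ↘ Spec (CommRingCat.of k))] [SmoothOfRelativeDimension 1 (C ↘ Spec (CommRingCat.of k))]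
  [GeometricallyConnected (C ↘ Spec (CommRingCat.of k))] [Smooth (C ↘ Spec (CommRingCat.of k))]

local notation "fX" => (C ↘ Spec (CommRingCat.of k))

variable {σ : {τ : Spec (CommRingCat.of k) ⟶ C // τ ≫ (C ↘ Spec (CommRingCat.of k)) = 𝟙 _}}
  {J : Over (Spec (CommRingCat.of k))} [GrpObj J] [IsCommMonObj J]
  {j : Over.mk (C ↘ Spec (CommRingCat.of k)) ⟶ J} (D : JacData σ J j) (hd : topologicalKrullDim C = 1)
  {Ncl : PicLoc.PicSet C} (r : ℕ) (a : (𝟙_ (Over (Spec (CommRingCat.of k)))) ⟶ J)
  (ha : (clk D a)⁻¹ * delta k σ hd ^ r = Ncl)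

include hd ha in
theorem cl_ptK_mul {K : Type u} [Field K] [IsAlgClosed K] (p : Spec (CommRingCat.of K) ⟶ Spec (CommRingCat.of k)) :
    ((jacK p D).cl (ptK p a))⁻¹ * delta K (secK p σ.1 σ.2) (dim_CK p hd) ^ r = pull (pullback.fst fX p) Ncl := by
  rw [← ha, map_mul, map_inv, map_pow, cl_ptK, pull_fst_delta p hd σ.1 σ.2]

include hd ha in
/-- A geometric point lies in the translated power exactly when its class has a section after tensoring. -/
theorem mem_range_iff {K : Type u} [Field K] [IsAlgClosed K] (p : Spec (CommRingCat.of K) ⟶ Spec (CommRingCat.of k))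
    (v : Over.mk p ⟶ J) :
    v.left (IsLocalRing.closedPoint K : (Over.mk p).left) ∈ Set.range (qMap j r a).left ↔
      1 ≤ hC K ((jacK p D).cl (xOf p v) * pull (pullback.fst fX p) Ncl) 0 := by
  rw [← rpt_xOf, ← Set.mem_preimage, ← symSet_eq, (jacK p D).mem_symSet (dim_CK p hd),
    mul_assoc, cl_ptK_mul D hd r a ha p]

include hd ha in
/-- **The theta locus is the translate of the image of the power of the curve.** -/
theorem thetaLocus_eq_range (ψ : (ModFun.PicDeg fX 0).Hom ⊤ J)
    (hψ : ∀ (T : Over (Spec (CommRingCat.of k))) (x : (XT fX T).Modules) (hx : (ModFun.PicDeg fX 0).ok T x)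
        (hxi : PicF.IsInvertible x) (v : T ⟶ J),
        ψ.app T x trivial hx = v ↔ pull (XTmap fX v) D.ξ = rigify fX σ.1 σ.2 T (PicGrp.cls x hxi))
    {N : C.Modules} (hN : PicF.IsInvertible N) (hNc : PicGrp.cls N hN = Ncl) :
    Jac.thetaLocus fX 0 ψ N = Set.range (qMap j r a).left := by
  haveI := D.proper
  haveI := ClosedRep.GeomIntegral.geometricallyIntegral_of_smooth fX
  haveI : IsIntegral C :=
    haveI : Subsingleton ↥(Spec (CommRingCat.of k)) := inferInstanceAs (Subsingleton (PrimeSpectrum k))
    GeometricallyIntegral.isIntegral_of_subsingleton fX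
  haveI : IsProper (WidePullback.base fun (_ : Fin r) => fX) :=
    SymCurve.prop_fibPow_base @IsProper (fun φ _ => inferInstance) fX inferInstance r
  haveI : IsProper ((qMap j r a).left ≫ J.hom) := by
    rw [Over.w (qMap j r a)]; exact inferInstanceAs (IsProper (WidePullback.base fun (_ : Fin r) => fX))
  haveI : IsProper (qMap j r a).left := IsProper.of_comp _ J.hom
  have hcl : IsClosed (Set.range (qMap j r a).left) := (qMap j r a).left.isClosedMap.isClosed_range
  have key : ∀ (Ω : Type u) [Field Ω] [IsAlgClosed Ω] (t : Spec (CommRingCat.of Ω) ⟶ Spec (CommRingCat.of k))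
      (v : Over.mk t ⟶ J) (L : (XT fX (Over.mk t)).Modules) (hL : PicF.IsInvertible L),
      PicGrp.cls L hL = pull (XTmap fX v) D.ξ →
      (¬ Subsingleton (Coh.HH (XT fX (Over.mk t))
          (CohB1.tensorMod L ((Scheme.Modules.pullback (pullback.fst fX t)).obj N)) 0) ↔
        v.left (IsLocalRing.closedPoint Ω : (Over.mk t).left) ∈ Set.range (qMap j r a).left) := by
    intro Ω _ _ t v L hL hLv
    rw [mem_range_iff D hd r a ha t v, show (jacK t D).cl (xOf t v) = PicGrp.cls L hL from
      (cl_xOf t D v).trans hLv.symm, ← hNc, pull_cls (pullback.fst fX t) N hN]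
    have hE := TMul.isInvertible_tensorMod hL (PicLoc.isInvertible_pullback (pullback.fst fX t) hN)
    show _ ↔ 1 ≤ hC Ω (X := CK C t) (PicGrp.cls _ hE) 0
    rw [hC_cls Ω (X := CK C t) hE]
    haveI := FrobSplit.finite_hh Ω (CK C t) hE 0
    constructor
    · intro hne
      haveI : Nontrivial (Coh.HH (CK C t)
          (CohB1.tensorMod L ((Scheme.Modules.pullback (pullback.fst fX t)).obj N)) 0) :=
        not_subsingleton_iff_nontrivial.1 hne
      exact Module.finrank_pos (R := Ω)
    · intro h hsub
      rw [CurveRR.h_eq_zero hsub] at h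
      omega
  rw [Jac.thetaLocus]
  refine subset_antisymm (closure_minimal ?_ hcl) fun y hy => subset_closure ?_
  · rintro m ⟨Ω, _, _, t, hP, L, hok, hne, q, rfl⟩
    have hLi : PicF.IsInvertible L := ZeroSch.isInvertible_of_rankOne hok.1.2
    have hv := (hψ (Over.mk t) L hok hLi (ψ.app (Over.mk t) L hP hok)).1 rfl
    haveI : Subsingleton ↥(Over.mk t).left := inferInstanceAs (Subsingleton (PrimeSpectrum Ω))
    rw [Subsingleton.elim (α := ↥(Over.mk t).left) q (IsLocalRing.closedPoint Ω)]
    refine (key Ω t _ L hLi ?_).1 hne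
    rw [hv, rigify, show pull (secT fX σ.1 σ.2 (Over.mk t)) (PicGrp.cls L hLi) = 1 from
      picSet_field_eq_one (k := Ω) _, inv_one, map_one, mul_one]
  · let Ω := AlgebraicClosure (J.left.residueField y)
    let w : Spec (CommRingCat.of Ω) ⟶ J.left :=
      Spec.map (CommRingCat.ofHom (algebraMap (J.left.residueField y) Ω)) ≫ J.left.fromSpecResidueField y
    let t := w ≫ J.hom
    let v : Over.mk t ⟶ J := Over.homMk w rfl
    have hvy : v.left (IsLocalRing.closedPoint Ω : (Over.mk t).left) = y :=
      (Scheme.Hom.comp_apply _ _ _).trans (J.left.fromSpecResidueField_apply y _)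
    obtain ⟨L, hL, hLc⟩ := PicGrp.exists_eq_cls D.ξ
    have hLx := PicLoc.isInvertible_pullback (XTmap fX v) hL
    have hcls : PicGrp.cls _ hLx = pull (XTmap fX v) D.ξ := by rw [hLc, pull_cls]
    have hok : (ModFun.PicDeg fX 0).ok (Over.mk t) ((Scheme.Modules.pullback (XTmap fX v)).obj L) :=
      ⟨⟨trivial, CurveRR.isFinLocFreeOfRank_one hLx⟩, (ok_iff fX hd 0 (Over.mk t) hLx).2 fun z => by
        rw [hcls, degC_pull]
        exact D.zero _⟩
    refine ⟨Ω, inferInstance, inferInstance, t, trivial, _, hok,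
      (key Ω t v _ hLx hcls).2 (hvy.symm ▸ hy), IsLocalRing.closedPoint Ω, ?_⟩
    exact (congrArg (fun m : Over.mk t ⟶ J => m.left (IsLocalRing.closedPoint Ω : (Over.mk t).left))
      ((hψ (Over.mk t) _ hok hLx v).2 (by
        rw [hcls, rigify_of_mem fX σ.1 σ.2 (pull_secT v D.mem)]))).trans hvy

/-- The ideal of the translated power is preserved by extension to an algebraically closed field. -/
theorem comap_vanishingIdeal {K : Type u} [Field K] [IsAlgClosed K]
    (p : Spec (CommRingCat.of K) ⟶ Spec (CommRingCat.of k)) (hZ : IsClosed (Set.range (qMap j r a).left)) :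
    (Scheme.IdealSheafData.vanishingIdeal (X := J.left) ⟨_, hZ⟩).comap (pullback.fst J.hom p) =
      Scheme.IdealSheafData.vanishingIdeal (X := (Red.bc p J).left)
        ⟨symSet (abelB fX p j) r (ptK p a), (jacK p D).isClosed_symSet r (ptK p a)⟩ := by
  haveI := D.proper
  haveI : IsProper (WidePullback.base fun (_ : Fin r) => fX) :=
    SymCurve.prop_fibPow_base @IsProper (fun φ _ => inferInstance) fX inferInstance r
  haveI : Smooth (WidePullback.base fun (_ : Fin r) => fX) :=
    SymCurve.prop_fibPow_base @Smooth (fun φ _ => inferInstance) fX inferInstance r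
  let W : Over (Spec (CommRingCat.of k)) := Over.mk (WidePullback.base fun (_ : Fin r) => fX)
  haveI : Smooth W.hom := inferInstanceAs (Smooth (WidePullback.base fun (_ : Fin r) => fX))
  haveI : IsReduced W.left := isReduced_of_smooth_field W.hom
  haveI : Smooth (Red.bc p W).hom := inferInstanceAs (Smooth (pullback.snd W.hom p))
  haveI : IsReduced (Red.bc p W).left := isReduced_of_smooth_field (Red.bc p W).hom
  haveI : IsProper W.hom := inferInstanceAs (IsProper (WidePullback.base fun (_ : Fin r) => fX))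
  haveI : IsProper ((qMap j r a).left ≫ J.hom) := by rw [Over.w (qMap j r a)]; infer_instance
  haveI : IsProper (qMap j r a).left := IsProper.of_comp _ J.hom
  haveI : Flat p := inferInstance
  haveI : Flat (pullback.fst J.hom p) := MorphismProperty.pullback_fst (P := @Flat) _ _ ‹_›
  have hker : ∀ {A B : Scheme.{u}} [IsReduced A] (φ : A ⟶ B) (h : IsClosed (Set.range φ)),
      Scheme.IdealSheafData.vanishingIdeal ⟨Set.range φ, h⟩ = φ.ker := fun φ h => by
    refine le_antisymm (RedKer.vanishingIdeal_le_ker φ _ subset_rfl) ?_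
    refine Scheme.IdealSheafData.le_support_iff_le_vanishingIdeal.1 ?_
    show Set.range φ ⊆ (φ.ker.support : Set _)
    exact φ.range_subset_ker_support
  have hq : Set.range ((Over.pullback p).map (qMap j r a)).left =
      symSet (abelB fX p j) r (ptK p a) := (range_map p _).trans (symSet_eq p r a).symm
  have hc' : IsClosed (Set.range ((Over.pullback p).map (qMap j r a)).left) := by
    rw [hq]; exact (jacK p D).isClosed_symSet r (ptK p a)
  rw [hker (qMap j r a).left hZ, ← S4667.result (qMap j r a).left (pullback.fst J.hom p)]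
  refine Eq.trans ?_ (congrArg Scheme.IdealSheafData.vanishingIdeal (Closeds.ext (s := ⟨_, hc'⟩) (t := ⟨_, (jacK p D).isClosed_symSet r (ptK p a)⟩) hq))
  refine Eq.trans ?_ (hker (A := (Red.bc p W).left) ((Over.pullback p).map (qMap j r a)).left hc').symm
  rw [← (qMap_sq p (qMap j r a)).isoPullback_hom_snd, Scheme.Hom.ker_comp_of_isIso]

end Locus

end Groth.Agent.PicTheta.Bar
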