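import Groth.Agent.PicCurve.Div
import Groth.Agent.SmDesc.Scheme
import Groth.Agent.FinAlgClosed.Basic

/-!
A finite flat morphism is smooth along a fibre over a rational point having as many points as the degree.
-/

set_option autoImplicit false
set_option backward.isDefEq.respectTransparency false
set_option backward.isDefEq.respectTransparency.types false
set_option linter.style.haveILetI false
set_option linter.unusedSectionVars false
set_option maxHeartbeats 1000000

universe u

open CategoryTheory CategoryTheory.Limits AlgebraicGeometry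

noncomputable section

namespace Groth.Agent.PicTheta

/-- A finite algebra over an algebraically closed field with as many maximal ideals as its dimension is etale. -/
theorem etale_of_maximal_count {k A : Type u} [Field k] [IsAlgClosed k] [CommRing A] [Algebra k A] [Module.Finite k A]
    {n : ℕ} (m : Fin n → Ideal A) [∀ i, (m i).IsMaximal] (hm : Function.Injective m)
    (hn : Module.finrank k A = n) : Algebra.Etale k A := by
  let φ : A →ₐ[k] (∀ i, A ⧸ m i) := AlgHom.pi fun i => Ideal.Quotient.mkₐ k (m i)
  have hs : Function.Surjective φ := fun y => by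
    choose b hb using fun i => Ideal.Quotient.mk_surjective (y i)
    obtain ⟨a, ha⟩ := Ideal.exists_forall_sub_mem_ideal
      (fun i j hij => Ideal.isCoprime_of_isMaximal fun h => hij (hm h)) b
    exact ⟨a, funext fun i => (Ideal.Quotient.mk_eq_mk_iff_sub_mem _ _).2 (ha i) |>.trans (hb i)⟩
  have hi : Function.Injective φ := by
    refine (LinearMap.injective_iff_surjective_of_finrank_eq_finrank (f := φ.toLinearMap) ?_).2 hs
    have hge : n ≤ Module.finrank k (∀ i, A ⧸ m i) := by
      rw [Module.finrank_pi_fintype]
      calc n = ∑ _i : Fin n, 1 := by simp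
        _ ≤ _ := Finset.sum_le_sum fun i _ => Module.finrank_pos
    have hle := LinearMap.finrank_le_finrank_of_surjective (f := φ.toLinearMap) hs
    omega
  haveI : IsReduced A := isReduced_of_injective φ hi
  haveI : Algebra.FinitePresentation k A :=
    (Algebra.FinitePresentation.of_finiteType (R := k) (A := A)).mp inferInstance
  haveI := FinAlgClosed.formallyEtale_of_isReduced k A
  constructor <;> infer_instance

/-- A finite flat scheme over an algebraically closed field with as many points as its rank is smooth. -/
theorem smooth_of_points {k : Type u} [Field k] [IsAlgClosed k] {Z : Scheme.{u}} (q : Z ⟶ Spec (CommRingCat.of k))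
    [IsFinite q] [Flat q] {n : ℕ} (z : Fin n → Z) (hz : Function.Injective z) (hn : ∀ y, q.finrank y = n) :
    Smooth q := by
  haveI : IsAffine Z := isAffine_of_isAffineHom q
  letI : Algebra k Γ(Z, ⊤) := (Coh.toGlobal q).toAlgebra
  have e : Z.isoSpec.hom ≫ Spec.map (CommRingCat.ofHom (algebraMap k Γ(Z, ⊤))) = q := by
    have h : CommRingCat.ofHom (algebraMap k Γ(Z, ⊤)) = (Scheme.ΓSpecIso (CommRingCat.of k)).inv ≫ q.appTop := rfl
    rw [h, Spec.map_comp, ← Category.assoc, Scheme.isoSpec_hom_naturality, Category.assoc, Scheme.isoSpec_Spec_hom,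
      ← Spec.map_comp, Iso.inv_hom_id, Spec.map_id, Category.comp_id]
  haveI : IsFinite (Spec.map (CommRingCat.ofHom (algebraMap k Γ(Z, ⊤)))) := by
    rw [← MorphismProperty.cancel_left_of_respectsIso @IsFinite Z.isoSpec.hom, e]
    infer_instance
  haveI : Module.Finite k Γ(Z, ⊤) := by
    rw [← RingHom.finite_algebraMap]
    exact (IsFinite.SpecMap_iff _).1 ‹_›
  have hdim : Module.finrank k Γ(Z, ⊤) = n :=
    (PicCurve.finrank_eq_dim q (IsLocalRing.closedPoint k : Spec (CommRingCat.of k))).symm.trans (hn _)
  haveI : IsArtinianRing Γ(Z, ⊤) := isArtinian_of_tower k inferInstance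
  let m : Fin n → Ideal Γ(Z, ⊤) := fun i => (Z.isoSpec.hom (z i)).asIdeal
  haveI : ∀ i, (m i).IsMaximal := fun i => IsArtinianRing.isMaximal_of_isPrime _
  haveI := etale_of_maximal_count (k := k) m (fun i j h => hz (Z.isoSpec.hom.isOpenEmbedding.injective
    (PrimeSpectrum.ext h))) hdim
  rw [← e, MorphismProperty.cancel_left_of_respectsIso @Smooth, HasRingHomProperty.Spec_iff (P := @Smooth)]
  exact RingHom.smooth_algebraMap.2 inferInstance

/-- A finite flat morphism of degree `n` is smooth along a fibre over a rational point with `n` points. -/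
theorem mem_smoothLocus_of_points {k : Type u} [Field k] [IsAlgClosed k] {E T Z : Scheme.{u}} (q : E ⟶ T)
    [IsFinite q] [Flat q] [LocallyOfFinitePresentation q] (t : Spec (CommRingCat.of k) ⟶ T) {g' : Z ⟶ E}
    {q' : Z ⟶ Spec (CommRingCat.of k)} (sq : IsPullback g' q' q t) {n : ℕ}
    (hn : ∀ y, q.finrank y = n) (e : Fin n → Z) (he : Function.Injective e) (x : Z) : g' x ∈ q.smoothLocus := by
  haveI : IsFinite q' := MorphismProperty.of_isPullback (P := @IsFinite) sq ‹_›
  haveI : Flat q' := MorphismProperty.of_isPullback (P := @Flat) sq ‹_›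
  haveI : LocallyOfFinitePresentation q' := MorphismProperty.of_isPullback (P := @LocallyOfFinitePresentation) sq ‹_›
  haveI : Smooth q' := smooth_of_points q' e he fun y =>
    (Scheme.Hom.finrank_of_isPullback _ _ _ _ sq y).trans (hn _)
  have h := SmDesc.smoothLocus_eq_preimage sq (Or.inl ‹Flat q›)
  rw [Scheme.Hom.smoothLocus_eq_top] at h
  exact h.le (show x ∈ (⊤ : Z.Opens) from trivial)

end Groth.Agent.PicTheta
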