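import Groth.Agent.PicTheta.ThetaCartier
import Groth.Agent.S8862

/-!
Effective divisors with one section, and the translates of the theta divisor as preimages under reflections.
-/

set_option autoImplicit false
set_option backward.isDefEq.respectTransparency false
set_option backward.isDefEq.respectTransparency.types false
set_option linter.style.haveILetI false
set_option linter.unusedSectionVars false
set_option maxHeartbeats 1000000

universe u

open CategoryTheory CategoryTheory.Limits AlgebraicGeometry TopologicalSpace MonoidalCategory CartesianMonoidalCategory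
open PicF
open scoped MonObj
open Groth.Agent.W7Cube (pull pull_pull pull_cls)
open Groth.Agent.SubGen (rpt exists_rpt rpt_mem_closedPoints map_rpt)
open Groth.Agent.PicCurve

attribute [local instance] Groth.Agent.W7Cube.law

noncomputable section

namespace Groth.Agent.PicTheta

variable {k : Type u} [Field k] [IsAlgClosed k] {C : Scheme.{u}} [C.Over (Spec (CommRingCat.of k))]
  [IsProper (C ↘ Spec (CommRingCat.of k))] [Smooth (C ↘ Spec (CommRingCat.of k))]
  [GeometricallyConnected (C ↘ Spec (CommRingCat.of k))] [GeometricallyIrreducible (C ↘ Spec (CommRingCat.of k))]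
  [SmoothOfRelativeDimension 1 (C ↘ Spec (CommRingCat.of k))] [IsIntegral C]

local notation "fX" => (C ↘ Spec (CommRingCat.of k))

/-- An effective divisor with one section is determined by its class. -/
theorem eq_of_divCl_eq {I I' : C.IdealSheafData} (hI : BlowUp.IsEffCartierIdeal I)
    (hI' : BlowUp.IsEffCartierIdeal I') (h : divCl I hI = divCl I' hI') (h0 : hC k (divCl I hI) 0 = 1) : I = I' := by
  haveI := CurveRR.isNoetherian_of_proper k C
  obtain ⟨L, hL, hLc⟩ := PicGrp.exists_eq_cls (divCl I hI)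
  obtain ⟨s, hs⟩ := AbelMap.exists_section hI hL (isInverseOf_of_cls_eq hL _ hLc.symm)
  obtain ⟨s', hs'⟩ := AbelMap.exists_section hI' hL (isInverseOf_of_cls_eq hL _ (hLc.symm.trans h))
  haveI : Subsingleton ↥(Spec (CommRingCat.of k)) := inferInstanceAs (Subsingleton (PrimeSpectrum k))
  haveI : IsAffine (Spec (CommRingCat.of k)) := inferInstance
  have hne : ∀ (J : C.IdealSheafData), BlowUp.IsEffCartierIdeal J → ∀ r : Coh.structureModule C ⟶ L,
      PicF2.zeroScheme L r = J → ∀ t : Spec (CommRingCat.of k), ∃ z, fX z = t ∧ z ∈ CohB1.genLocus L r :=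
    fun J hJ r hr t => by
      obtain ⟨z, hz⟩ := genLocus_nonempty_of_effCartier hL r (by rw [hr]; exact hJ)
      exact ⟨z, Subsingleton.elim _ _, hz⟩
  have hr : ∀ t, CohIII.fiberRank fX L 0 t ≤ 1 := fun t => by
    rw [PicFam.fiberRank_eq_betti, AbelMap.betti_field (TMul.isQCoh_of_isInvertible hL) t 0]
    rw [hLc, hC_cls] at h0
    exact h0.le
  obtain ⟨a, ha⟩ := AbelMap.exists_smul_of_fibres fX hL s (hne I hI s hs) hr s'
  obtain ⟨b, hb⟩ := AbelMap.exists_smul_of_fibres fX hL s' (hne I' hI' s' hs') hr s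
  rw [← hs, ← hs']
  exact le_antisymm (AbelMap.zeroScheme_le_of_smul hL s' s b hb) (AbelMap.zeroScheme_le_of_smul hL s s' a ha)

variable (hd : topologicalKrullDim C = 1)

include hd in
/-- An effective divisor of degree at most `g` with one section determines its points up to order. -/
theorem exists_perm_of_hC_eq_one {g : ℕ} (hg : Curv2.genus k C = g) : ∀ {n : ℕ}, n ≤ g →
    ∀ (τ τ' : Fin n → {τ : Spec (CommRingCat.of k) ⟶ C // τ ≫ fX = 𝟙 _}),
    ∏ i, delta k (τ i) hd = ∏ i, delta k (τ' i) hd → hC k (∏ i, delta k (τ i) hd) 0 = 1 →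
    ∃ e : Equiv.Perm (Fin n), ∀ i, τ' i = τ (e i)
  | 0, _, _, _, _, _ => ⟨Equiv.refl _, fun i => i.elim0⟩
  | n + 1, hn, τ, τ', h, h0 => by
    obtain ⟨l, hl⟩ := exists_eq_of_hC_eq_one k hd hg hn τ τ' h h0 0
    have h' : ∏ i : Fin n, delta k (τ (Equiv.swap 0 l i.succ)) hd = ∏ i : Fin n, delta k (τ' i.succ) hd := by
      have e : ∏ i, delta k (τ i) hd = ∏ i, delta k (τ (Equiv.swap 0 l i)) hd :=
        (Equiv.prod_comp (Equiv.swap 0 l) fun i => delta k (τ i) hd).symm
      rw [e, Fin.prod_univ_succ, Equiv.swap_apply_left] at h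
      conv_rhs at h => rw [Fin.prod_univ_succ, hl]
      exact mul_left_cancel h
    have h0' : hC k (∏ i : Fin n, delta k (τ (Equiv.swap 0 l i.succ)) hd) 0 = 1 := by
      refine le_antisymm ?_ (one_le_hC_prod k hd _)
      refine ((hC_le_mul_delta k hd _ (τ l)).trans_eq (congrArg (fun e => hC k e 0) ?_)).trans h0.le
      rw [← Equiv.prod_comp (Equiv.swap 0 l) fun i => delta k (τ i) hd, Fin.prod_univ_succ, Equiv.swap_apply_left,
        mul_comm]
    obtain ⟨e, he⟩ := exists_perm_of_hC_eq_one hg (by omega) _ _ h' h0'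
    let E : Fin (n + 1) → Fin (n + 1) := fun i => Equiv.swap 0 l (Fin.cases 0 (fun m => (e m).succ) i)
    have hE : Function.Injective E := (Equiv.injective _).comp fun a b => by
      induction a using Fin.cases <;> induction b using Fin.cases <;> simp [Fin.succ_ne_zero, (Fin.succ_ne_zero _).symm]
    refine ⟨Equiv.ofBijective E (Finite.injective_iff_bijective.1 hE), fun i => ?_⟩
    induction i using Fin.cases with
    | zero => simp [E, hl]
    | succ m => simp [E, he]

variable {σ : {τ : Spec (CommRingCat.of k) ⟶ C // τ ≫ (C ↘ Spec (CommRingCat.of k)) = 𝟙 _}} {J : Over (Spec (CommRingCat.of k))} [GrpObj J]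
  [IsCommMonObj J] {j : Over.mk (C ↘ Spec (CommRingCat.of k)) ⟶ J} (D : JacData σ J j)

include hd D in
/-- A translate of the theta divisor is the preimage of the theta divisor under a reflection. -/
theorem symSet_eq_preimage {g : ℕ} (hg : Curv2.genus k C = g) (hg1 : 1 ≤ g)
    (κ a : (𝟙_ (Over (Spec (CommRingCat.of k)))) ⟶ J)
    (hκ : D.cl κ = canonCl k hd * (delta k σ hd ^ (2 * g - 2))⁻¹) :
    symSet j (g - 1) a = (reflect J (a * κ)).left ⁻¹' Set.range (sumMap j (g - 1)).left.base := by
  haveI := D.proper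
  refine eq_of_rpt (D.isClosed_symSet (g - 1) a)
    ((symSet_one (j := j) (g - 1) ▸ D.isClosed_symSet (g - 1) 1).preimage (reflect J (a * κ)).left.continuous)
    fun x => ?_
  rw [D.mem_symSet hd]
  show _ ↔ (reflect J (a * κ)).left (rpt x) ∈ Set.range (sumMap j (g - 1)).left.base
  rw [map_rpt, rp_reflect, D.mem_range hd]
  set c := D.cl x * (D.cl a)⁻¹ * delta k σ hd ^ (g - 1) with hc
  have e : D.cl (x⁻¹ * (a * κ)) * delta k σ hd ^ (g - 1) = canonCl k hd * c⁻¹ := by
    rw [map_mul, map_mul, map_inv, hκ, hc, show 2 * g - 2 = (g - 1) + (g - 1) by omega, pow_add]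
    apply Additive.ofMul.injective; simp only [ofMul_mul, ofMul_inv]; module
  rw [e, ← hC_one k hd]
  have h := hC_sub k hd hg c
  rw [hc, D.deg_shift hd, ← hc] at h
  omega

end Groth.Agent.PicTheta
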