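import Groth.Agent.PicCurve.PointUnique
import Groth.Agent.PicTheta.EtaleFibre

/-!
Rational points of a relative divisor whose classes are good.
-/

set_option autoImplicit false
set_option backward.isDefEq.respectTransparency false
set_option backward.isDefEq.respectTransparency.types false
set_option linter.style.haveILetI false
set_option linter.unusedSectionVars false
set_option maxHeartbeats 1000000

universe u

open CategoryTheory CategoryTheory.Limits AlgebraicGeometry TopologicalSpace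
open PicF
open Groth.Agent.W7Cube (pull pull_pull pull_cls)
open Groth.Agent.PicCurve

attribute [local instance] Groth.Agent.W7Cube.law

noncomputable section

namespace Groth.Agent.PicTheta

variable {k : Type u} [Field k] [IsAlgClosed k] {X : Scheme.{u}} [X.Over (Spec (CommRingCat.of k))]
  [IsProper (X ↘ Spec (CommRingCat.of k))] [Smooth (X ↘ Spec (CommRingCat.of k))]
  [GeometricallyConnected (X ↘ Spec (CommRingCat.of k))] [SmoothOfRelativeDimension 1 (X ↘ Spec (CommRingCat.of k))]
  [IsIntegral X]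

local notation "fX" => (X ↘ Spec (CommRingCat.of k))

/-- A rational point of the curve over the one point scheme. -/
abbrev constPt (x : {τ : Spec (CommRingCat.of k) ⟶ X // τ ≫ (X ↘ Spec (CommRingCat.of k)) = 𝟙 _})
    (T : Over (Spec (CommRingCat.of k))) : {p : T.left ⟶ X // p ≫ (X ↘ Spec (CommRingCat.of k)) = T.hom} :=
  ⟨T.hom ≫ x.1, by rw [Category.assoc, x.2, Category.comp_id]⟩

/-- A rational point of `X_T`. -/
def pairPt {T : Over (Spec (CommRingCat.of k))} (x : {τ : Spec (CommRingCat.of k) ⟶ X // τ ≫ (X ↘ Spec (CommRingCat.of k)) = 𝟙 _})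
    (t : onePt k ⟶ T) : Spec (CommRingCat.of k) ⟶ XT (X ↘ Spec (CommRingCat.of k)) T :=
  HilbOne.sect (X ↘ Spec (CommRingCat.of k)) (onePt k) (constPt x (onePt k)).1 (constPt x (onePt k)).2 ≫
    XTmap (X ↘ Spec (CommRingCat.of k)) t

theorem pairPt_fst {T : Over (Spec (CommRingCat.of k))} (x : {τ : Spec (CommRingCat.of k) ⟶ X // τ ≫ fX = 𝟙 _})
    (t : onePt k ⟶ T) : pairPt x t ≫ pullback.fst fX T.hom = x.1 := by
  rw [pairPt, Category.assoc, AbelMap.XTmap_fst, HilbOne.sect_fst]
  exact Category.id_comp _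

theorem pairPt_snd {T : Over (Spec (CommRingCat.of k))} (x : {τ : Spec (CommRingCat.of k) ⟶ X // τ ≫ fX = 𝟙 _})
    (t : onePt k ⟶ T) : pairPt x t ≫ XTproj fX T = t.left := by
  rw [pairPt, Category.assoc, XTmap_proj]
  exact (Category.assoc _ _ _).symm.trans ((congrArg (· ≫ t.left) (HilbOne.sect_snd fX (onePt k) _ _)).trans
    (Category.id_comp _))

/-- The class of a family at a rational point. -/
def cT {T : Over (Spec (CommRingCat.of k))} (c : PicLoc.PicSet (XT (X ↘ Spec (CommRingCat.of k)) T))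
    (t : onePt k ⟶ T) : PicLoc.PicSet X :=
  pull (toPt k) (pull (XTmap (X ↘ Spec (CommRingCat.of k)) t) c)

variable (hdim : topologicalKrullDim X = 1) {g : ℕ} {T : Over (Spec (CommRingCat.of k))} (D : HilbD.Obj (X ↘ Spec (CommRingCat.of k)) g T)

include hdim in
theorem degP_cT (t : onePt k ⟶ T) (hg : Curv2.genus k X = g)
    (h0 : hC k (cT (divCl D.1 (effCartier_obj fX T D)) t) 0 = 1)
    (h1 : hC k (cT (divCl D.1 (effCartier_obj fX T D)) t) 1 = 0) :
    degP k (cT (divCl D.1 (effCartier_obj fX T D)) t) = g := by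
  have h := hC_sub k hdim hg (cT (divCl D.1 (effCartier_obj fX T D)) t)
  omega

include hdim in
/-- A good relative divisor at a rational point is the sum of the points of its class. -/
theorem pull_eq_prod (hg : Curv2.genus k X = g) (t : onePt k ⟶ T)
    (τ : Fin g → {τ : Spec (CommRingCat.of k) ⟶ X // τ ≫ fX = 𝟙 _}) (hg1 : 0 < g)
    (hτ : cT (divCl D.1 (effCartier_obj fX T D)) t = ∏ i, delta k (τ i) hdim)
    (h0 : hC k (cT (divCl D.1 (effCartier_obj fX T D)) t) 0 = 1)
    (h1 : hC k (cT (divCl D.1 (effCartier_obj fX T D)) t) 1 = 0) :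
    HilbD.pull fX t D.1 = ∏ i, HilbD.secGraph fX (onePt k) (constPt (τ i) (onePt k)).1 (constPt (τ i) (onePt k)).2 := by
  obtain ⟨n, rfl⟩ : ∃ n, g = n + 1 := ⟨g - 1, by omega⟩
  let P : Over (Spec (CommRingCat.of k)) := onePt k
  haveI : IsAffine P.left := inferInstanceAs (IsAffine (Spec (CommRingCat.of k)))
  haveI : Smooth (XTproj fX P) := SmoothOfRelativeDimension.smooth 1 _
  let Dt : HilbD.Obj fX (n + 1) P := ⟨_, HilbOne.mem_pull fX (n + 1) t _ D.2⟩
  let E : HilbD.Obj fX (n + 1) P := ⟨∏ i, HilbD.secGraph fX P (constPt (τ i) P).1 (constPt (τ i) P).2,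
    HilbSum.prod_secGraph_mem fX P _ fun i => constPt (τ i) P⟩
  have hDt : divCl Dt.1 (effCartier_obj fX P Dt) = pull (XTmap fX t) (divCl D.1 (effCartier_obj fX T D)) := by
    rw [pull_divCl _ _ (by rw [← HilbOne.pull_eq_comap]; exact effCartier_obj fX P Dt)]
    exact divCl_congr (HilbOne.pull_eq_comap fX t D.1) _ _
  have hE : divCl E.1 (effCartier_obj fX P E) = pull (pullback.fst fX P.hom) (∏ i, delta k (τ i) hdim) := by
    rw [divCl_prod _ (fun i => effCartier_obj fX P (d := 1)
      ⟨_, HilbOne.secGraph_mem fX P (constPt (τ i) P).1 (constPt (τ i) P).2⟩), map_prod]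
    refine Finset.prod_congr rfl fun i _ => ?_
    rw [← pull_toPt_ptCl k hdim (τ i) (constPt (τ i) P).2, pull_fst_toPt]
    rfl
  have hc : pull (pullback.fst fX P.hom) (cT (divCl D.1 (effCartier_obj fX T D)) t) =
      pull (XTmap fX t) (divCl D.1 (effCartier_obj fX T D)) := pull_fst_toPt k _
  obtain ⟨L, hL, hLc⟩ := PicGrp.exists_eq_cls (cT (divCl D.1 (effCartier_obj fX T D)) t)
  rw [hLc, hC_cls] at h0 h1
  refine obj_eq fX (fun z => (dim_fiber_spec fX z).trans hdim) P Dt E (by rw [hDt, hE, ← hτ, hc]) fun s => ?_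
  rw [hDt, ← hc, hLc, pull_cls, goodC_cls, good_pull fX (IsPullback.of_hasPullback fX P.hom) hL s]
  exact ⟨(AbelMap.betti_field (TMul.isQCoh_of_isInvertible hL) _ 0).trans h0,
    (AbelMap.betti_field (TMul.isQCoh_of_isInvertible hL) _ 1).trans h1⟩

include hdim in
/-- Membership of a rational point in a good relative divisor. -/
theorem mem_support_iff (hg : Curv2.genus k X = g) (hg1 : 0 < g) (t : onePt k ⟶ T)
    (h0 : hC k (cT (divCl D.1 (effCartier_obj fX T D)) t) 0 = 1)
    (h1 : hC k (cT (divCl D.1 (effCartier_obj fX T D)) t) 1 = 0)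
    (x : {τ : Spec (CommRingCat.of k) ⟶ X // τ ≫ fX = 𝟙 _}) :
    pairPt x t (IsLocalRing.closedPoint k) ∈ D.1.support ↔
      1 ≤ hC k (cT (divCl D.1 (effCartier_obj fX T D)) t * (delta k x hdim)⁻¹) 0 := by
  obtain ⟨τ, hτ⟩ := exists_points_of_hC k hdim (r := g) _ (degP_cT hdim D t hg h0 h1) h0.ge
  obtain ⟨n, rfl⟩ : ∃ n, g = n + 1 := ⟨g - 1, by omega⟩
  have key : pairPt x t (IsLocalRing.closedPoint k) ∈ D.1.support ↔ ∃ i, x = τ i := by
    have e : pairPt x t (IsLocalRing.closedPoint k) = XTmap fX t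
        (HilbOne.sect fX (onePt k) (constPt x (onePt k)).1 (constPt x (onePt k)).2 (IsLocalRing.closedPoint k)) := rfl
    have hs : ∀ p, XTmap fX t p ∈ D.1.support ↔ p ∈ (HilbD.pull fX t D.1).support := fun p => by
      rw [HilbOne.pull_eq_comap, Scheme.IdealSheafData.support_comap]
      rfl
    rw [e, hs, pull_eq_prod hdim D hg t τ hg1 hτ h0 h1,
      mem_support_prod_secGraph k (onePt k) _ fun i => constPt (τ i) (onePt k)]
    refine ⟨fun ⟨i, t', ht'⟩ => ⟨i, Subtype.ext (ext_of_apply_closedPoint_eq fX x.2 (τ i).2 ?_)⟩,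
      fun ⟨i, hi⟩ => ⟨i, IsLocalRing.closedPoint k, by rw [hi]⟩⟩
    haveI : Subsingleton ↥(Spec (CommRingCat.of k)) := inferInstanceAs (Subsingleton (PrimeSpectrum k))
    have h' := congrArg (fun p => pullback.fst fX (onePt k).hom p) ht'
    simp only [← Scheme.Hom.comp_apply, HilbOne.sect_fst] at h'
    rw [show (onePt k).hom ≫ x.1 = x.1 from Category.id_comp _,
      show (onePt k).hom ≫ (τ i).1 = (τ i).1 from Category.id_comp _,
      Subsingleton.elim (α := ↥(Spec (CommRingCat.of k))) t' (IsLocalRing.closedPoint k)] at h'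
    exact h'.symm
  rw [key]
  constructor
  · rintro ⟨i, rfl⟩
    rw [hτ, Fin.prod_univ_succAbove _ i, mul_comm (delta k (τ i) hdim), mul_inv_cancel_right]
    exact one_le_hC_prod k hdim _
  · intro hx
    obtain ⟨ρ, hρ⟩ := exists_points_of_hC k hdim (r := n) _ (by
      rw [degP_mul k hdim, degP_inv' k hdim, degP_delta k hdim, degP_cT hdim D t hg h0 h1]; omega) hx
    obtain ⟨i, hi⟩ := exists_eq_of_hC_eq_one k hdim hg (n := n) le_rfl τ (Fin.cons x ρ) (by
        rw [← hτ, Fin.prod_univ_succ]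
        simp only [Fin.cons_zero, Fin.cons_succ]
        rw [← hρ, mul_comm, inv_mul_cancel_right])
      (by rw [← hτ]; exact h0) 0
    exact ⟨i, by simpa using hi⟩

end Groth.Agent.PicTheta
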