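import Groth.Agent.PicTheta.Slice
import Groth.Agent.PicCurve.SymSets

/-!
Riemann's computation: the curve meets a translate of the reflected theta divisor in the reduced divisor of its class,
when that divisor consists of distinct points and does not move.
-/

set_option autoImplicit false
set_option backward.isDefEq.respectTransparency false
set_option backward.isDefEq.respectTransparency.types false
set_option linter.style.haveILetI false
set_option linter.unusedSectionVars false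
set_option maxHeartbeats 1600000

universe u

open CategoryTheory CategoryTheory.Limits AlgebraicGeometry TopologicalSpace MonoidalCategory CartesianMonoidalCategory
open PicF
open scoped MonObj
open Groth.Agent.W7Cube (pull pull_pull pull_cls)
open Groth.Agent.SubGen (rpt exists_rpt rpt_mem_closedPoints map_rpt)
open Groth.Agent.PicCurve

attribute [local instance] Groth.Agent.W7Cube.law

noncomputable section

namespace Groth.Agent.PicTheta

variable {k : Type u} [Field k] [IsAlgClosed k] {C : Scheme.{u}} [C.Over (Spec (CommRingCat.of k))]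
  [IsProper (C ↘ Spec (CommRingCat.of k))] [Smooth (C ↘ Spec (CommRingCat.of k))]
  [GeometricallyConnected (C ↘ Spec (CommRingCat.of k))] [GeometricallyIrreducible (C ↘ Spec (CommRingCat.of k))]
  [SmoothOfRelativeDimension 1 (C ↘ Spec (CommRingCat.of k))] [IsIntegral C]
  (hd : topologicalKrullDim C = 1)

local notation "fX" => (C ↘ Spec (CommRingCat.of k))

/-- The constant section. -/
abbrev cSec (x : {τ : Spec (CommRingCat.of k) ⟶ C // τ ≫ (C ↘ Spec (CommRingCat.of k)) = 𝟙 _})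
    (T : Over (Spec (CommRingCat.of k))) : T.left ⟶ XT (C ↘ Spec (CommRingCat.of k)) T :=
  HilbOne.sect (C ↘ Spec (CommRingCat.of k)) T (constPt x T).1 (constPt x T).2

theorem cSec_nat (x : {τ : Spec (CommRingCat.of k) ⟶ C // τ ≫ fX = 𝟙 _}) {T T' : Over (Spec (CommRingCat.of k))}
    (m : T' ⟶ T) : cSec x T' ≫ XTmap fX m = m.left ≫ cSec x T := by
  refine pullback.hom_ext ?_ ?_
  · rw [Category.assoc, AbelMap.XTmap_fst, Category.assoc, HilbOne.sect_fst, HilbOne.sect_fst]
    exact ((Category.assoc _ _ _).symm.trans (congrArg (· ≫ x.1) (Over.w m))).symm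
  · show (_ ≫ _) ≫ XTproj fX T = (_ ≫ _) ≫ XTproj fX T
    rw [Category.assoc, XTmap_proj, Category.assoc,
      show cSec x T ≫ XTproj fX T = 𝟙 _ from HilbOne.sect_snd _ _ _ _, Category.comp_id, ← Category.assoc,
      show cSec x T' ≫ XTproj fX T' = 𝟙 _ from HilbOne.sect_snd _ _ _ _, Category.id_comp]

theorem cT_pull {T T' : Over (Spec (CommRingCat.of k))} (m : T' ⟶ T) (c : PicLoc.PicSet (XT fX T)) (t : onePt k ⟶ T') :
    cT (pull (XTmap fX m) c) t = cT c (t ≫ m) := by
  rw [cT, cT, pull_pull (XTmap fX t), S12404.XTmap_comp]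

theorem goodC_iff_cT {T : Over (Spec (CommRingCat.of k))} (c : PicLoc.PicSet (XT fX T)) (t : onePt k ⟶ T) :
    GoodC fX T c (t.left (IsLocalRing.closedPoint k)) ↔ hC k (cT c t) 0 = 1 ∧ hC k (cT c t) 1 = 0 := by
  haveI : Smooth (XTproj fX (onePt k)) := SmoothOfRelativeDimension.smooth 1 _
  obtain ⟨L, hL, hLc⟩ := PicGrp.exists_eq_cls (cT c t)
  have hc : pull (XTmap fX t) c = pull (pullback.fst fX (onePt k).hom) (cT c t) := (pull_fst_toPt k _).symm
  rw [← goodC_pull fX t c (IsLocalRing.closedPoint k : (onePt k).left), hc, hLc, pull_cls, goodC_cls,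
    good_pull fX (IsPullback.of_hasPullback fX (onePt k).hom) hL, hC_cls, hC_cls]
  unfold Good
  rw [AbelMap.betti_field (TMul.isQCoh_of_isInvertible hL) _ 0, AbelMap.betti_field (TMul.isQCoh_of_isInvertible hL) _ 1]

include hd in
/-- A family of good classes has a relative divisor with these classes. -/
theorem exists_obj_of_good {g : ℕ} (hg : Curv2.genus k C = g) (σ : Spec (CommRingCat.of k) ⟶ C) (hσ : σ ≫ fX = 𝟙 _)
    (T : Over (Spec (CommRingCat.of k))) (c : PicLoc.PicSet (XT fX T)) (hgood : ∀ t, GoodC fX T c t) :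
    ∃ D : HilbD.Obj fX g T, ∀ t : onePt k ⟶ T, cT (divCl D.1 (effCartier_obj fX T D)) t = cT c t := by
  have hX : Curve.IsSmoothProperCurve k C fX := ⟨‹_›, ‹_›, ‹_›, hd⟩
  obtain ⟨H, Z, hH, -, -⟩ := Groth.Agent.S1170.result k C fX hX (Curv2.genus k C)
  subst hg
  obtain ⟨x, hx, -⟩ := existsUnique_hom fX σ hσ (isIso_app_proj fX hX σ hσ) (Curv2.genus k C)
    (fun z => (dim_fiber_spec fX z).trans hd) (betti_structure_curve fX hX σ hσ) H Z hH T (rigify fX σ hσ T c)
    (rigify_mem fX σ hσ T c) fun t => (goodC_rigify fX σ hσ T c t).2 (hgood t)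
  refine ⟨⟨_, HilbOne.mem_pull fX _ x _ Z.2⟩, fun t => ?_⟩
  rw [pull_cH] at hx
  have key : ∀ c' : PicLoc.PicSet (XT fX T), cT (rigify fX σ hσ T c') t = cT c' t := fun c' => by
    rw [cT, cT, pull_rigify, pull_toPt_rigify]
  exact (key _).symm.trans ((congrArg (fun c' => cT c' t) hx).trans (key c))

variable {σ : {τ : Spec (CommRingCat.of k) ⟶ C // τ ≫ (C ↘ Spec (CommRingCat.of k)) = 𝟙 _}} {J : Over (Spec (CommRingCat.of k))} [GrpObj J]
  [IsCommMonObj J] {j : Over.mk (C ↘ Spec (CommRingCat.of k)) ⟶ J} (D : JacData σ J j)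

theorem cT_xi (x : onePt k ⟶ J) (b : PicLoc.PicSet C) :
    cT (D.ξ * pull (pullback.fst fX J.hom) b) x = D.cl x * b := by
  rw [cT, map_mul, map_mul, pull_pull (XTmap fX x), AbelMap.XTmap_fst, pull_toPt_fst]
  rfl

include hd in
/-- **The transversality of the curve and the theta divisor at distinct points of a class with one section.** -/
theorem comap_isReduced_at {g : ℕ} (hg : Curv2.genus k C = g) (hg1 : 1 ≤ g) (a : (𝟙_ (Over (Spec (CommRingCat.of k)))) ⟶ J)
    (τ : Fin g → {τ : Spec (CommRingCat.of k) ⟶ C // τ ≫ fX = 𝟙 _}) (hinj : Function.Injective τ)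
    (ha : D.cl a * delta k σ hd ^ g = ∏ i, delta k (τ i) hd) (h0 : hC k (∏ i, delta k (τ i) hd) 0 = 1)
    (h : Over.mk fX ⟶ J) (hh : ∀ t : (𝟙_ (Over (Spec (CommRingCat.of k)))) ⟶ Over.mk fX, D.cl (t ≫ h) = D.cl a * (D.cl (t ≫ j))⁻¹)
    (i : Fin g) (hW : IsClosed (Set.range (sumMap j (g - 1)).left.base)) :
    ∃ (W : Scheme.{u}) (w : W ⟶ C) (_ : IsOpenImmersion w), (τ i).1 (IsLocalRing.closedPoint k) ∈ Set.range w ∧
      IsReduced (((Scheme.IdealSheafData.vanishingIdeal ⟨_, hW⟩).comap h.left).comap w).subscheme := by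
  haveI := D.proper
  obtain ⟨n, rfl⟩ : ∃ n, g = n + 1 := ⟨g - 1, by omega⟩
  simp only [Nat.add_sub_cancel] at hW ⊢
  -- the general point
  set ci : PicLoc.PicSet C := (∏ l, delta k (τ l) hd) * (delta k (τ i) hd)⁻¹ with hci
  have hdci : degP k ci = n := by
    rw [hci, degP_mul k hd, degP_inv' k hd, degP_delta k hd, degP_prod_delta k hd]; omega
  have hci0 : hC k ci 0 = 1 := by
    refine le_antisymm ((hC_le_mul_delta k hd ci (τ i)).trans_eq (by rw [hci, inv_mul_cancel_right, h0])) ?_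
    rw [hci, Fin.prod_univ_succAbove _ i, mul_comm (delta k (τ i) hd), mul_inv_cancel_right]
    exact one_le_hC_prod k hd _
  have hsub := hC_sub k hd hg ci
  rw [hdci, hci0] at hsub
  obtain ⟨UR, hUR, hdrop⟩ := exists_open_hC_one k hd ci (by omega)
  obtain ⟨R, hRU, hRτ⟩ := exists_point_avoid k hd UR hUR τ
  have hdR := hdrop R hRU
  have hsub2 := hC_sub k hd hg (ci * delta k R hd)
  rw [degP_mul k hd, hdci, degP_delta k hd] at hsub2
  have hgciR : hC k (ci * delta k R hd) 0 = 1 ∧ hC k (ci * delta k R hd) 1 = 0 := by omega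
  -- the good loci
  let b : PicLoc.PicSet C := delta k σ hd ^ n * delta k R hd
  let cJ := D.ξ * pull (pullback.fst fX J.hom) b
  let V : J.left.Opens := ⟨{y | GoodC fX J cJ y}, isOpen_goodC fX J cJ⟩
  let TV := AbDual.ovr J V.ι
  let mV : TV ⟶ J := AbDual.ovrHom J V.ι
  have hTVgood : ∀ y, GoodC fX TV (pull (XTmap fX mV) cJ) y := fun y => (goodC_pull fX mV cJ y).2 y.2
  obtain ⟨DV, hDV⟩ := exists_obj_of_good hd hg σ.1 σ.2 TV _ hTVgood
  have hDVc : ∀ z : onePt k ⟶ TV, cT (divCl DV.1 (effCartier_obj fX TV DV)) z = D.cl (z ≫ mV) * b := fun z => by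
    rw [hDV, cT_pull, cT_xi]
  have hgz : ∀ z : onePt k ⟶ TV, hC k (cT (divCl DV.1 (effCartier_obj fX TV DV)) z) 0 = 1 ∧
      hC k (cT (divCl DV.1 (effCartier_obj fX TV DV)) z) 1 = 0 := fun z => by
    have := (goodC_iff_cT _ z).1 (hTVgood (z.left (IsLocalRing.closedPoint k)))
    rwa [← hDV] at this
  -- the slice cuts out the theta divisor
  let K := DV.1.comap (cSec R TV)
  haveI : LocallyOfFiniteType TV.hom := inferInstanceAs (LocallyOfFiniteType (V.ι ≫ J.hom))
  have hK : (K.support : Set TV.left) = V.ι ⁻¹' Set.range (sumMap j n).left.base := by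
    refine eq_of_sect TV.hom K.support.isClosed (hW.preimage V.ι.continuous) fun z hz => ?_
    let z' : onePt k ⟶ TV := Over.homMk z hz
    have e : z ≫ cSec R TV = pairPt R z' := (cSec_nat R z').symm
    rw [Scheme.IdealSheafData.support_comap]
    show (z ≫ cSec R TV) (IsLocalRing.closedPoint k) ∈ DV.1.support ↔ _
    rw [e, mem_support_iff hd DV hg (by omega) z' (hgz z').1 (hgz z').2, hDVc]
    refine Iff.trans ?_ (D.mem_range hd n (z' ≫ mV)).symm
    rw [show D.cl (z' ≫ mV) * b * (delta k R hd)⁻¹ = D.cl (z' ≫ mV) * delta k σ hd ^ n by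
      rw [mul_assoc, mul_inv_cancel_right]]
  -- the family on the curve
  let U : C.Opens := h.left ⁻¹ᵁ V
  let m : TT U ⟶ TV := Over.homMk (h.left ∣_ V) (by
    show h.left ∣_ V ≫ V.ι ≫ J.hom = U.ι ≫ fX
    rw [morphismRestrict_ι_assoc, Over.w h]
    rfl)
  let DU : HilbD.Obj fX (n + 1) (TT U) := ⟨_, HilbOne.mem_pull fX (n + 1) m _ DV.2⟩
  let Lc : PicLoc.PicSet C := (∏ l, delta k (τ l) hd) * delta k R hd
  have hDUd : divCl DU.1 (effCartier_obj fX (TT U) DU) = pull (XTmap fX m) (divCl DV.1 (effCartier_obj fX TV DV)) := by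
    rw [pull_divCl _ _ (by rw [← HilbOne.pull_eq_comap]; exact effCartier_obj fX (TT U) DU)]
    exact divCl_congr (HilbOne.pull_eq_comap fX m DV.1) _ _
  have hpt : ∀ t' : (𝟙_ (Over (Spec (CommRingCat.of k)))) ⟶ Over.mk fX, D.cl (t' ≫ h) * b =
      Lc * (delta k (⟨t'.left, Over.w t'⟩ : {τ : Spec (CommRingCat.of k) ⟶ C // τ ≫ fX = 𝟙 _}) hd)⁻¹ := fun t' => by
    have ej : D.cl (t' ≫ j) = delta k (⟨t'.left, Over.w t'⟩ : {τ : Spec (CommRingCat.of k) ⟶ C // τ ≫ fX = 𝟙 _}) hd *
        (delta k σ hd)⁻¹ := by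
      have e : t' = (Over.homMk t'.left (Over.w t') : (𝟙_ (Over (Spec (CommRingCat.of k)))) ⟶ Over.mk fX) :=
        Over.OverMorphism.ext rfl
      conv_lhs => rw [e]
      exact D.cl_abel hd ⟨t'.left, Over.w t'⟩
    simp only [hh, ej, b, Lc, ← ha]
    apply Additive.ofMul.injective; simp only [ofMul_mul, ofMul_inv, ofMul_pow]; module
  have hcl : ∀ t : onePt k ⟶ TT U, cT (divCl DU.1 (effCartier_obj fX (TT U) DU)) t =
      Lc * (delta k (ptOf t) hd)⁻¹ := fun t => by
    rw [hDUd, cT_pull, hDVc]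
    refine (congrArg (fun q => D.cl q * b) (Over.OverMorphism.ext ?_)).trans (hpt (Over.homMk (ptOf t).1 (ptOf t).2))
    show (t.left ≫ h.left ∣_ V) ≫ V.ι = (t.left ≫ U.ι) ≫ h.left
    rw [Category.assoc, morphismRestrict_ι, Category.assoc]
  have hgU : ∀ t : onePt k ⟶ TT U, hC k (cT (divCl DU.1 (effCartier_obj fX (TT U) DU)) t) 0 = 1 ∧
      hC k (cT (divCl DU.1 (effCartier_obj fX (TT U) DU)) t) 1 = 0 := fun t => by
    rw [hDUd, cT_pull]; exact hgz _
  have hgD : hC k (∏ l, delta k (τ l) hd) 1 = 0 := by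
    have h := hC_sub k hd hg (∏ l, delta k (τ l) hd)
    rw [degP_prod_delta k hd, h0] at h
    omega
  -- lifting points
  have lift : ∀ Q : {τ : Spec (CommRingCat.of k) ⟶ C // τ ≫ fX = 𝟙 _},
      hC k (Lc * (delta k Q hd)⁻¹) 0 = 1 ∧ hC k (Lc * (delta k Q hd)⁻¹) 1 = 0 →
      ∃ t : onePt k ⟶ TT U, ptOf t = Q := fun Q hQ => by
    let t' : (𝟙_ (Over (Spec (CommRingCat.of k)))) ⟶ Over.mk fX := Over.homMk Q.1 Q.2
    have hgQ : GoodC fX J cJ ((t' ≫ h).left (IsLocalRing.closedPoint k)) :=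
      (goodC_iff_cT cJ (t' ≫ h : onePt k ⟶ J)).2 (by
        rw [cT_xi, hpt t']
        exact hQ)
    have hr : Set.range Q.1 ⊆ Set.range U.ι := by
      rintro _ ⟨p, rfl⟩
      haveI : Subsingleton ↥(Spec (CommRingCat.of k)) := inferInstanceAs (Subsingleton (PrimeSpectrum k))
      rw [U.range_ι, Subsingleton.elim (α := ↥(Spec (CommRingCat.of k))) p (IsLocalRing.closedPoint k)]
      exact hgQ
    exact ⟨Over.homMk (IsOpenImmersion.lift U.ι Q.1 hr) (by
      show IsOpenImmersion.lift U.ι Q.1 hr ≫ U.ι ≫ fX = 𝟙 _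
      rw [IsOpenImmersion.lift_fac_assoc, Q.2]), Subtype.ext (IsOpenImmersion.lift_fac _ _ _)⟩
  have eR : Lc * (delta k R hd)⁻¹ = ∏ l, delta k (τ l) hd := mul_inv_cancel_right _ _
  have ei : Lc * (delta k (τ i) hd)⁻¹ = ci * delta k R hd := mul_right_comm _ _ _
  obtain ⟨tR, htR⟩ := lift R (by rw [eR]; exact ⟨h0, hgD⟩)
  obtain ⟨ti, hti⟩ := lift (τ i) (by rw [ei]; exact hgciR)
  obtain ⟨W0, hW0, hred⟩ := slice_isReduced hd DU hg (by omega) Lc hgU hcl tR ti
    ⟨τ, hinj, by rw [hcl, htR, eR]⟩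
    ⟨Fin.cons R fun l => τ (i.succAbove l), by
      rw [Fin.cons_injective_iff]
      exact ⟨fun ⟨l, hl⟩ => hRτ _ hl.symm, hinj.comp Fin.succAbove_right_injective⟩, by
      rw [hcl, hti, ei, Fin.prod_univ_succ]
      simp only [Fin.cons_zero, Fin.cons_succ]
      rw [mul_comm, hci, Fin.prod_univ_succAbove _ i, mul_comm (delta k (τ i) hd), mul_inv_cancel_right]⟩
  rw [htR] at hred
  refine ⟨W0, W0.ι ≫ U.ι, inferInstance, ?_, ?_⟩
  · refine ⟨⟨ti.left (IsLocalRing.closedPoint k), hW0⟩, ?_⟩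
    rw [← hti]
    rfl
  -- comparison
  let Vn := Scheme.IdealSheafData.vanishingIdeal (X := J.left) ⟨_, hW⟩
  haveI : IsReduced (Vn.comap V.ι).subscheme := by
    haveI : IsReduced Vn.subscheme := DvrDom.isReduced_vanishingIdeal_subscheme _
    exact isReduced_of_isOpenImmersion ((Vn.comapIso V.ι).hom ≫ pullback.snd V.ι Vn.subschemeι)
  have hKle : K ≤ Vn.comap V.ι := by
    have e := Nakai.ker_eq_vanishingIdeal (Vn.comap V.ι).subschemeι
    rw [Scheme.IdealSheafData.ker_subschemeι] at e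
    rw [e, ← Scheme.IdealSheafData.le_support_iff_le_vanishingIdeal]
    show SetLike.coe (Vn.comap V.ι).support ⊆ SetLike.coe K.support
    rw [hK, Scheme.IdealSheafData.support_comap, Closeds.coe_preimage, Scheme.IdealSheafData.coe_support_vanishingIdeal]
    exact subset_rfl
  have e1 : DU.1.comap (cSec R (TT U)) = K.comap m.left := by
    rw [show DU.1 = DV.1.comap (XTmap fX m) from HilbOne.pull_eq_comap fX m DV.1,
      ← Scheme.IdealSheafData.comap_comp, cSec_nat, Scheme.IdealSheafData.comap_comp]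
  have e2 : (Vn.comap h.left).comap (W0.ι ≫ U.ι) = (Vn.comap V.ι).comap (W0.ι ≫ m.left) := by
    rw [← Scheme.IdealSheafData.comap_comp, ← Scheme.IdealSheafData.comap_comp, Category.assoc, Category.assoc,
      show m.left ≫ V.ι = U.ι ≫ h.left from morphismRestrict_ι _ _]
  let A := (DU.1.comap (cSec R (TT U))).comap W0.ι
  haveI : IsReduced A.subscheme := hred
  have hA : A = K.comap (W0.ι ≫ m.left) := by
    show (DU.1.comap (cSec R (TT U))).comap W0.ι = _
    rw [e1, ← Scheme.IdealSheafData.comap_comp]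
  have hsupp : (A.support : Set (W0 : Scheme.{u})) = ((Vn.comap V.ι).comap (W0.ι ≫ m.left)).support := by
    have hV : SetLike.coe (Vn.comap V.ι).support = SetLike.coe K.support := by
      rw [hK, Scheme.IdealSheafData.support_comap, Closeds.coe_preimage, Scheme.IdealSheafData.coe_support_vanishingIdeal]
      rfl
    rw [hA, Scheme.IdealSheafData.support_comap K, Scheme.IdealSheafData.support_comap (Vn.comap V.ι),
      Closeds.coe_preimage, Closeds.coe_preimage, hV]
    rfl
  have hEq : (Vn.comap V.ι).comap (W0.ι ≫ m.left) = A := by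
    refine le_antisymm ?_ (hA ▸ Scheme.IdealSheafData.comap_mono _ hKle)
    have e := Nakai.ker_eq_vanishingIdeal A.subschemeι
    rw [Scheme.IdealSheafData.ker_subschemeι] at e
    rw [e, ← Scheme.IdealSheafData.le_support_iff_le_vanishingIdeal]
    exact hsupp.subset
  rw [e2, hEq]
  exact hred

end Groth.Agent.PicTheta
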