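import Groth.Agent.PicTheta.Riemann

/-!
The curve meets a translate of the reflected theta divisor exactly in the points of the class.
-/

set_option autoImplicit false
set_option backward.isDefEq.respectTransparency false
set_option backward.isDefEq.respectTransparency.types false
set_option linter.style.haveILetI false
set_option linter.unusedSectionVars false
set_option maxHeartbeats 1600000

universe u

open CategoryTheory CategoryTheory.Limits AlgebraicGeometry TopologicalSpace MonoidalCategory CartesianMonoidalCategory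
open PicF
open scoped MonObj
open Groth.Agent.W7Cube (pull pull_pull pull_cls)
open Groth.Agent.SubGen (rpt exists_rpt rpt_mem_closedPoints map_rpt)
open Groth.Agent.PicCurve

attribute [local instance] Groth.Agent.W7Cube.law

noncomputable section

namespace Groth.Agent.PicTheta

/-- An ideal is reduced when it is so near every point of its support. -/
theorem isReduced_subscheme_of_local {X : Scheme.{u}} (I : X.IdealSheafData)
    (h : ∀ x ∈ I.support, ∃ (W : Scheme.{u}) (w : W ⟶ X) (_ : IsOpenImmersion w),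
      x ∈ Set.range w ∧ IsReduced (I.comap w).subscheme) : IsReduced I.subscheme := by
  choose W w hw hx hr using fun e : I.subscheme => h (I.subschemeι e) (by
    show I.subschemeι e ∈ (I.support : Set X)
    rw [← Scheme.IdealSheafData.range_subschemeι]; exact Set.mem_range_self e)
  let F : ∀ e : I.subscheme, (I.comap (w e)).subscheme ⟶ I.subscheme := fun e =>
    (I.comapIso (w e)).hom ≫ pullback.snd (w e) I.subschemeι
  haveI : ∀ e, IsOpenImmersion (F e) := fun e => by haveI := hw e; infer_instance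
  have hcov : ∀ e : I.subscheme, e ∈ (F e).opensRange := fun e => by
    obtain ⟨p, hp⟩ := hx e
    obtain ⟨z, -, hz⟩ := Scheme.Pullback.exists_preimage_pullback (f := w e) (g := I.subschemeι) p e hp
    refine ⟨(I.comapIso (w e)).inv z, ?_⟩
    show F e ((I.comapIso (w e)).inv z) = e
    rw [← Scheme.Hom.comp_apply, Iso.inv_hom_id_assoc]
    exact hz
  haveI : ∀ e, IsReduced ((F e).opensRange : Scheme.{u}) := fun e => by
    haveI := hr e
    exact isReduced_of_isOpenImmersion (F e).isoOpensRange.inv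
  haveI hc : ∀ i, IsReduced ((I.subscheme.openCoverOfIsOpenCover (fun e => (F e).opensRange)
      (eq_top_iff.2 fun e _ => Opens.mem_iSup.2 ⟨e, hcov e⟩)).X i) := fun e =>
    (inferInstance : IsReduced ((F e).opensRange : Scheme.{u}))
  exact IsReduced.of_openCover _ (I.subscheme.openCoverOfIsOpenCover (fun e => (F e).opensRange)
      (eq_top_iff.2 fun e _ => Opens.mem_iSup.2 ⟨e, hcov e⟩))

/-- The vanishing ideal of the preimage under an isomorphism. -/
theorem vanishingIdeal_comap_iso {X Y : Scheme.{u}} (φ : X ⟶ Y) [IsIso φ] {Z : Set Y} (hZ : IsClosed Z) :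
    (Scheme.IdealSheafData.vanishingIdeal ⟨Z, hZ⟩).comap φ =
      Scheme.IdealSheafData.vanishingIdeal ⟨φ ⁻¹' Z, hZ.preimage φ.continuous⟩ := by
  haveI : IsReduced (Scheme.IdealSheafData.vanishingIdeal (X := Y) ⟨Z, hZ⟩).subscheme :=
    DvrDom.isReduced_vanishingIdeal_subscheme _
  haveI : IsReduced (Scheme.IdealSheafData.vanishingIdeal (X := X) ⟨φ ⁻¹' Z, hZ.preimage φ.continuous⟩).subscheme :=
    DvrDom.isReduced_vanishingIdeal_subscheme _
  haveI : IsReduced ((Scheme.IdealSheafData.vanishingIdeal (X := Y) ⟨Z, hZ⟩).comap φ).subscheme :=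
    isReduced_of_isOpenImmersion ((Scheme.IdealSheafData.comapIso _ φ).hom ≫ pullback.snd φ _)
  refine eq_of_support_eq ?_
  rw [Scheme.IdealSheafData.support_comap, Closeds.coe_preimage, Scheme.IdealSheafData.coe_support_vanishingIdeal,
    Scheme.IdealSheafData.coe_support_vanishingIdeal]
  rfl

variable {k : Type u} [Field k] [IsAlgClosed k] {C : Scheme.{u}} [C.Over (Spec (CommRingCat.of k))]
  [IsProper (C ↘ Spec (CommRingCat.of k))] [Smooth (C ↘ Spec (CommRingCat.of k))]
  [GeometricallyConnected (C ↘ Spec (CommRingCat.of k))] [GeometricallyIrreducible (C ↘ Spec (CommRingCat.of k))]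
  [SmoothOfRelativeDimension 1 (C ↘ Spec (CommRingCat.of k))] [IsIntegral C]
  (hd : topologicalKrullDim C = 1)

local notation "fX" => (C ↘ Spec (CommRingCat.of k))

variable {σ : {τ : Spec (CommRingCat.of k) ⟶ C // τ ≫ (C ↘ Spec (CommRingCat.of k)) = 𝟙 _}} {J : Over (Spec (CommRingCat.of k))} [GrpObj J]
  [IsCommMonObj J] {j : Over.mk (C ↘ Spec (CommRingCat.of k)) ⟶ J} (D : JacData σ J j)

variable (J) in
/-- The reflection `x ↦ a x⁻¹`. -/
def reflect (a : (𝟙_ (Over (Spec (CommRingCat.of k)))) ⟶ J) : J ⟶ J := (𝟙 J)⁻¹ ≫ Jac.transl J a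

theorem rp_reflect (a x : (𝟙_ (Over (Spec (CommRingCat.of k)))) ⟶ J) : x ≫ reflect J a = x⁻¹ * a := by
  rw [reflect, ← Category.assoc, GrpObj.comp_inv, Category.comp_id, rp_transl]

theorem reflect_reflect (a : (𝟙_ (Over (Spec (CommRingCat.of k)))) ⟶ J) : reflect J a ≫ reflect J a = 𝟙 J := by
  simp only [reflect, Jac.transl, MonObj.comp_mul, GrpObj.comp_inv, Category.comp_id, ← Category.assoc]
  simp [toUnit_unique _ (toUnit J)]

theorem reflect_image (a : (𝟙_ (Over (Spec (CommRingCat.of k)))) ⟶ J) (Z : Set J.left) :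
    (Jac.transl J a).left.base '' (((𝟙 J)⁻¹).left.base '' Z) = (reflect J a).left.base ⁻¹' Z := by
  have hr : ∀ p, (reflect J a).left ((reflect J a).left p) = p := fun p => by
    rw [← Scheme.Hom.comp_apply, ← Over.comp_left, reflect_reflect]; rfl
  rw [← Set.image_comp]
  show (fun p => (reflect J a).left p) '' Z = _
  ext p
  exact ⟨fun ⟨q, hq, e⟩ => by show (reflect J a).left p ∈ Z; rw [← e, hr]; exact hq, fun hp => ⟨_, hp, hr p⟩⟩

include hd in
/-- **Riemann's theorem at a divisor of distinct points with one section.** -/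
theorem comap_theta_eq {g : ℕ} (hg : Curv2.genus k C = g) (hg1 : 1 ≤ g) (a : (𝟙_ (Over (Spec (CommRingCat.of k)))) ⟶ J)
    (τ : Fin g → {τ : Spec (CommRingCat.of k) ⟶ C // τ ≫ fX = 𝟙 _}) (hinj : Function.Injective τ)
    (ha : D.cl a * delta k σ hd ^ g = ∏ i, delta k (τ i) hd) (h0 : hC k (∏ i, delta k (τ i) hd) 0 = 1)
    (hW : IsClosed (Set.range (sumMap j (g - 1)).left.base)) :
    (Scheme.IdealSheafData.vanishingIdeal (X := J.left) ⟨_, hW⟩).comap (j ≫ reflect J a).left = ⨅ i, (τ i).1.ker := by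
  let h := j ≫ reflect J a
  have hh : ∀ t : (𝟙_ (Over (Spec (CommRingCat.of k)))) ⟶ Over.mk fX, D.cl (t ≫ h) = D.cl a * (D.cl (t ≫ j))⁻¹ :=
    fun t => by rw [← Category.assoc, rp_reflect, map_mul, map_inv, mul_comm]
  let I : C.IdealSheafData := (Scheme.IdealSheafData.vanishingIdeal (X := J.left) ⟨_, hW⟩).comap h.left
  let P : Fin g → C := fun i => (τ i).1 (IsLocalRing.closedPoint k)
  have hsupp : (I.support : Set C) = Set.range P := by
    have hPc : IsClosed (Set.range P) := by
      rw [← Set.iUnion_singleton_eq_range]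
      exact isClosed_iUnion_of_finite fun i => (pointEquivClosedPoint (K := k) fX (τ i)).2
    refine eq_of_sect fX I.support.isClosed hPc fun z hz => ?_
    let t : (𝟙_ (Over (Spec (CommRingCat.of k)))) ⟶ Over.mk fX := Over.homMk z hz
    rw [Scheme.IdealSheafData.support_comap, Closeds.coe_preimage, Scheme.IdealSheafData.coe_support_vanishingIdeal]
    show rpt (t ≫ h) ∈ Set.range (sumMap j (g - 1)).left.base ↔ _
    rw [D.mem_range hd, hh, show D.cl (t ≫ j) = delta k ⟨z, hz⟩ hd * (delta k σ hd)⁻¹ from D.cl_abel hd ⟨z, hz⟩]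
    obtain ⟨n, rfl⟩ : ∃ n, g = n + 1 := ⟨g - 1, by omega⟩
    rw [show D.cl a * (delta k ⟨z, hz⟩ hd * (delta k σ hd)⁻¹)⁻¹ * delta k σ hd ^ (n + 1 - 1) =
        (∏ i, delta k (τ i) hd) * (delta k ⟨z, hz⟩ hd)⁻¹ by
      rw [← ha, Nat.add_sub_cancel]
      apply Additive.ofMul.injective; simp only [ofMul_mul, ofMul_inv, ofMul_pow]; module]
    constructor
    · intro hx
      obtain ⟨ρ, hρ⟩ := exists_points_of_hC k hd (r := n) _ (by
        rw [degP_mul k hd, degP_inv' k hd, degP_delta k hd, degP_prod_delta k hd]; omega) hx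
      obtain ⟨i, hi⟩ := exists_eq_of_hC_eq_one k hd hg (n := n) le_rfl τ (Fin.cons ⟨z, hz⟩ ρ) (by
          conv_rhs => rw [Fin.prod_univ_succ]
          simp only [Fin.cons_zero, Fin.cons_succ]
          rw [← hρ, mul_comm, inv_mul_cancel_right])
        h0 0
      simp only [Fin.cons_zero] at hi
      exact ⟨i, congrArg (fun Q : {τ : Spec (CommRingCat.of k) ⟶ C // τ ≫ fX = 𝟙 _} => Q.1 (IsLocalRing.closedPoint k)) hi.symm⟩
    · rintro ⟨i, hi⟩
      rw [show (⟨z, hz⟩ : {τ : Spec (CommRingCat.of k) ⟶ C // τ ≫ fX = 𝟙 _}) = τ i from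
        Subtype.ext (ext_of_apply_closedPoint_eq fX hz (τ i).2 hi.symm),
        Fin.prod_univ_succAbove _ i, mul_comm (delta k (τ i) hd), mul_inv_cancel_right]
      exact one_le_hC_prod k hd _
  haveI : IsReduced I.subscheme := isReduced_subscheme_of_local I fun x hx => by
    obtain ⟨i, rfl⟩ := (Set.ext_iff.1 hsupp x).1 hx
    exact comap_isReduced_at hd D hg hg1 a τ hinj ha h0 h hh i hW
  show I = _
  have e := Nakai.ker_eq_vanishingIdeal I.subschemeι
  rw [Scheme.IdealSheafData.ker_subschemeι] at e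
  have hker : ∀ i, (τ i).1.ker = Scheme.IdealSheafData.vanishingIdeal
      ⟨{P i}, (pointEquivClosedPoint (K := k) fX (τ i)).2⟩ := fun i => by
    haveI : Subsingleton ↥(Spec (CommRingCat.of k)) := inferInstanceAs (Subsingleton (PrimeSpectrum k))
    exact CurveRR.ker_section fX _ (τ i).2 _ fun p => congrArg (τ i).1 (Subsingleton.elim p _)
  simp only [hker, ← Scheme.IdealSheafData.vanishingIdeal_iSup]
  rw [e]
  refine congrArg _ (Closeds.ext ?_)
  rw [hsupp]
  have hPc : IsClosed (Set.range P) := by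
    rw [← Set.iUnion_singleton_eq_range]
    exact isClosed_iUnion_of_finite fun i => (pointEquivClosedPoint (K := k) fX (τ i)).2
  let S : Closeds C := ⟨Set.range P, hPc⟩
  show (S : Set C) = _
  refine congrArg SetLike.coe (le_antisymm ?_ (iSup_le fun i => ?_))
  · rintro p ⟨i, rfl⟩
    exact le_iSup (fun i => (⟨{P i}, (pointEquivClosedPoint (K := k) fX (τ i)).2⟩ : Closeds C)) i rfl
  · rintro p rfl
    exact ⟨i, rfl⟩

end Groth.Agent.PicTheta
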