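import Groth.Agent.PicTheta.ThetaClass
import Groth.Agent.S1684
import Groth.Agent.Devissage.Core
import Groth.Agent.Chev.Divisor

/-!
The theta divisor is an effective Cartier divisor.
-/

set_option autoImplicit false
set_option backward.isDefEq.respectTransparency false
set_option backward.isDefEq.respectTransparency.types false
set_option linter.style.haveILetI false
set_option linter.unusedSectionVars false
set_option maxHeartbeats 1000000

universe u

open CategoryTheory CategoryTheory.Limits AlgebraicGeometry TopologicalSpace MonoidalCategory CartesianMonoidalCategory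
open PicF
open scoped MonObj
open Groth.Agent.W7Cube (pull pull_pull pull_cls)
open Groth.Agent.SubGen (rpt exists_rpt rpt_mem_closedPoints map_rpt)
open Groth.Agent.PicCurve

attribute [local instance] Groth.Agent.W7Cube.law

noncomputable section

namespace Groth.Agent.PicTheta

variable {k : Type u} [Field k] [IsAlgClosed k] {C : Scheme.{u}} [C.Over (Spec (CommRingCat.of k))]
  [IsProper (C ↘ Spec (CommRingCat.of k))] [Smooth (C ↘ Spec (CommRingCat.of k))]
  [GeometricallyConnected (C ↘ Spec (CommRingCat.of k))] [GeometricallyIrreducible (C ↘ Spec (CommRingCat.of k))]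
  [SmoothOfRelativeDimension 1 (C ↘ Spec (CommRingCat.of k))] [IsIntegral C]
  (hd : topologicalKrullDim C = 1)

local notation "fX" => (C ↘ Spec (CommRingCat.of k))

variable {σ : {τ : Spec (CommRingCat.of k) ⟶ C // τ ≫ (C ↘ Spec (CommRingCat.of k)) = 𝟙 _}} {J : Over (Spec (CommRingCat.of k))} [GrpObj J]
  [IsCommMonObj J] {j : Over.mk (C ↘ Spec (CommRingCat.of k)) ⟶ J} (D : JacData σ J j)

include hd D in
/-- The dimension of the Jacobian is the genus. -/
theorem dim_eq_genus {g : ℕ} (hg : Curv2.genus k C = g) (hg1 : 1 ≤ g) : topologicalKrullDim J.left = g := by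
  obtain ⟨W, -, ξ, -, -, -, -, hW, hξ1, hξ0, hξ, -⟩ := exists_albanese fX σ.1 σ.2 hd g (by omega) hg
  obtain ⟨u, hu, -⟩ := D.classifies W ξ hξ1 hξ0
  obtain ⟨v, hv, -⟩ := hξ J D.ξ D.mem D.zero
  have h1 : u ≫ v = 𝟙 W := by
    obtain ⟨w, -, hw⟩ := hξ W ξ hξ1 hξ0
    refine (hw _ ?_).trans (hw _ ?_).symm
    · show pull (XTmap fX (u ≫ v)) ξ = ξ
      rw [← S12404.XTmap_comp, ← pull_pull, hv, hu]
    · show pull (XTmap fX (𝟙 W)) ξ = ξ
      rw [XTmap_id, pull_id]
  have h2 : v ≫ u = 𝟙 J := by
    obtain ⟨w, -, hw⟩ := D.classifies J D.ξ D.mem D.zero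
    refine (hw _ ?_).trans (hw _ ?_).symm
    · show pull (XTmap fX (v ≫ u)) D.ξ = D.ξ
      rw [← S12404.XTmap_comp, ← pull_pull, hu, hv]
    · show pull (XTmap fX (𝟙 J)) D.ξ = D.ξ
      rw [XTmap_id, pull_id]
  let e : W.left ≅ J.left := (Over.forget _).mapIso ⟨u, v, h1, h2⟩
  rw [← hW]
  exact ((Scheme.homeoOfIso e).isHomeomorph.topologicalKrullDim_eq).symm

include hd D in
/-- The images of the powers of the curve increase strictly up to the genus. -/
theorem exists_mem_succ {g : ℕ} (hg : Curv2.genus k C = g) {r : ℕ} (hr : r < g) :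
    ∃ x : (𝟙_ (Over (Spec (CommRingCat.of k)))) ⟶ J,
      rpt x ∈ Set.range (sumMap j (r + 1)).left.base ∧ rpt x ∉ Set.range (sumMap j r).left.base := by
  have h0 : hC k (delta k σ hd)⁻¹ 0 = 0 := by
    by_contra h
    have hdeg := hC_sub k hd hg (delta k σ hd)⁻¹
    obtain ⟨U, hU, hdrop⟩ := exists_open_hC_one k hd (delta k σ hd)⁻¹ (by
      rw [degP_inv' k hd, degP_delta k hd] at hdeg; omega)
    obtain ⟨Q, hQ, hQσ⟩ := exists_point_avoid k hd U hU fun _ : Fin 1 => σ
    have h2 : 1 ≤ hC k ((delta k σ hd)⁻¹ * delta k Q hd) 0 := one_le_hC_mul k hd _ _ (r := 1)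
      (by rw [degP_delta k hd]; rfl) (Nat.one_le_iff_ne_zero.2 h) (by rw [hC_delta k hd hg (by omega)])
    obtain ⟨φ, hφ⟩ := exists_points_of_hC k hd (r := 0) _ (by
      rw [degP_mul k hd, degP_inv' k hd, degP_delta k hd, degP_delta k hd]; simp) h2
    rw [Fin.prod_univ_zero, mul_comm, mul_inv_eq_one] at hφ
    exact hQσ 0 (delta_injective k hd hg (by omega) _ _ hφ)
  obtain ⟨τ, hτ⟩ := exists_points_hC_zero k hd hg _ h0 (r + 1) (by
    rw [degP_inv' k hd, degP_delta k hd]; omega)
  obtain ⟨x, hx⟩ := D.exists_cl hd ((∏ i, delta k (τ i) hd) * (delta k σ hd ^ (r + 1))⁻¹) (by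
    rw [degP_mul k hd, degP_inv' k hd, degP_prod_delta k hd, degP_delta_pow k hd]; omega)
  refine ⟨x, ?_, ?_⟩
  · rw [D.mem_range hd, hx, inv_mul_cancel_right]
    exact one_le_hC_prod k hd τ
  · rw [D.mem_range hd, hx]
    intro h
    refine absurd hτ (Nat.one_le_iff_ne_zero.1 (h.trans_eq (congrArg (fun e => hC k e 0) ?_)))
    apply Additive.ofMul.injective; simp only [ofMul_mul, ofMul_inv, ofMul_pow]; module

include hd D in
/-- **The theta divisor is an effective Cartier divisor.** -/
theorem isEffCartier_theta [Smooth J.hom] [GeometricallyIntegral J.hom] {g : ℕ} (hg : Curv2.genus k C = g)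
    (hg1 : 1 ≤ g) (hW : IsClosed (Set.range (sumMap j (g - 1)).left.base)) :
    BlowUp.IsEffCartierIdeal (Scheme.IdealSheafData.vanishingIdeal (X := J.left) ⟨_, hW⟩) := by
  haveI := D.proper
  haveI : IsIntegral J.left := by
    haveI : Nonempty ↥J.left := ⟨η[J].left (IsLocalRing.closedPoint k)⟩
    haveI : Subsingleton ↥(Spec (CommRingCat.of k)) := inferInstanceAs (Subsingleton (PrimeSpectrum k))
    exact GeometricallyIntegral.isIntegral_of_subsingleton J.hom
  haveI : IsLocallyNoetherian J.left := LocallyOfFiniteType.isLocallyNoetherian J.hom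
  let P : ℕ → Over (Spec (CommRingCat.of k)) := fun r => Over.mk (WidePullback.base fun (_ : Fin r) => fX)
  have hirr : ∀ r, IrreducibleSpace (P r).left := fun r => irreducibleSpace_powOver fX r
  let η' : ℕ → J.left := fun r => (sumMap j r).left (@genericPoint (P r).left _ _ (hirr r))
  have hcl : ∀ r, closure {η' r} = Set.range (sumMap j r).left.base := fun r => by
    haveI := hirr r
    have hc : IsClosed (Set.range (sumMap j r).left.base) := symSet_one (j := j) r ▸ D.isClosed_symSet r 1
    refine ((genericPoint_spec (P r).left).image (sumMap j r).left.continuous).def.trans ?_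
    rw [Set.image_univ]
    exact hc.closure_eq
  have hsub : ∀ r, Set.range (sumMap j r).left.base ⊆ Set.range (sumMap j (r + 1)).left.base := fun r =>
    subset_of_rpt (symSet_one (j := j) r ▸ D.isClosed_symSet r 1)
      (symSet_one (j := j) (r + 1) ▸ D.isClosed_symSet (r + 1) 1) fun x hx => by
      rw [D.mem_range hd] at hx ⊢
      refine hx.trans ((hC_le_mul_delta k hd _ σ).trans_eq (congrArg (fun e => hC k e 0) ?_))
      rw [mul_assoc, ← pow_succ]
  have hlt : ∀ r, r < g → η' r < η' (r + 1) := fun r hr => by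
    obtain ⟨x, hx1, hx0⟩ := exists_mem_succ hd D hg hr
    refine lt_iff_le_not_ge.2 ⟨?_, fun h => hx0 ?_⟩
    · refine specializes_iff_mem_closure.2 ?_
      rw [hcl]
      exact hsub r (hcl r ▸ subset_closure rfl)
    · rw [← hcl] at hx1 ⊢
      exact closure_minimal (Set.singleton_subset_iff.2 (specializes_iff_mem_closure.1 h)) isClosed_closure hx1
  have hht : ∀ r, r ≤ g → (r : ℕ∞) ≤ Order.height (η' r) := by
    intro r hr
    induction r with
    | zero => simp
    | succ r ih =>
      push_cast
      exact (add_le_add_left (ih (by omega)) 1).trans (Order.height_add_one_le (hlt r (by omega)))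
  obtain ⟨n, rfl⟩ : ∃ n, g = n + 1 := ⟨g - 1, by omega⟩
  set η₀ := η' n with hη₀
  have hco : Order.coheight η₀ = 1 := by
    refine le_antisymm ?_ (Order.one_le_iff_pos.2 (Order.coheight_pos.2 fun hmax => ?_))
    · have hk : Order.krullDim J.left = topologicalKrullDim J.left :=
        (Order.krullDim_eq_of_orderIso (irreducibleSetEquivPoints (α := J.left))).symm
      rw [dim_eq_genus hd D hg hg1] at hk
      haveI : Nonempty J.left := ⟨η₀⟩
      rw [Order.krullDim_eq_iSup_height_add_coheight_of_nonempty] at hk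
      have h : Order.height η₀ + Order.coheight η₀ ≤ ((n + 1 : ℕ) : ℕ∞) :=
        le_of_le_of_eq (le_iSup (fun a : J.left => Order.height a + Order.coheight a) η₀) (by exact_mod_cast hk)
      have h' := (add_le_add_left (hht n (by omega)) _).trans h
      push_cast at h'
      exact (ENat.add_le_add_iff_left (ENat.natCast_ne_top n)).1 h'
    · exact (hlt n (by omega)).not_ge (hmax (hlt n (by omega)).le)
  have hZ : (⟨_, hW⟩ : Closeds J.left) = Devissage.Zc η₀ := Closeds.ext (by rw [Closeds.coe_mk, Closeds.coe_mk, hη₀, hcl]; rfl)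
  rw [hZ]
  haveI := Devissage.Zi_isIntegral η₀
  refine Groth.Agent.S1684.result J.left _ ?_ fun x _ => ⟨inferInstance, Chev.ufd_stalk x⟩
  show ringKrullDim (J.left.presheaf.stalk (Devissage.Zi η₀ (genericPoint _))) = 1
  rw [Devissage.genericPoint_Zi, ringKrullDim_stalk_eq_coheight, hco]
  rfl

end Groth.Agent.PicTheta
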