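import Groth.Agent.PicTheta.RiemannMain
import Groth.Agent.S8120
import Groth.Agent.Chev.CentCover

/-!
The pullback of the class of the theta divisor along a reflected Abel map.
-/

set_option autoImplicit false
set_option backward.isDefEq.respectTransparency false
set_option backward.isDefEq.respectTransparency.types false
set_option linter.style.haveILetI false
set_option linter.unusedSectionVars false
set_option maxHeartbeats 1600000

universe u

open CategoryTheory CategoryTheory.Limits AlgebraicGeometry TopologicalSpace MonoidalCategory CartesianMonoidalCategory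
open PicF
open scoped MonObj
open Groth.Agent.W7Cube (pull pull_pull pull_cls)
open Groth.Agent.SubGen (rpt exists_rpt rpt_mem_closedPoints map_rpt)
open Groth.Agent.PicCurve

attribute [local instance] Groth.Agent.W7Cube.law

noncomputable section

namespace Groth.Agent.PicTheta

variable {k : Type u} [Field k] [IsAlgClosed k] {C : Scheme.{u}} [C.Over (Spec (CommRingCat.of k))]
  [IsProper (C ↘ Spec (CommRingCat.of k))] [Smooth (C ↘ Spec (CommRingCat.of k))]
  [GeometricallyConnected (C ↘ Spec (CommRingCat.of k))] [GeometricallyIrreducible (C ↘ Spec (CommRingCat.of k))]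
  [SmoothOfRelativeDimension 1 (C ↘ Spec (CommRingCat.of k))] [IsIntegral C]
  (hd : topologicalKrullDim C = 1)

local notation "fX" => (C ↘ Spec (CommRingCat.of k))

/-- A product of ideals with disjoint supports is their intersection. -/
theorem prod_eq_iInf_of_disjoint {X : Scheme.{u}} {n : ℕ} (I : Fin n → X.IdealSheafData)
    (h : Pairwise fun i l => Disjoint (SetLike.coe (I i).support) (SetLike.coe (I l).support)) :
    ∏ i, I i = ⨅ i, I i := by
  refine Scheme.IdealSheafData.ext (funext fun U => ?_)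
  have hp : ∀ s : Finset (Fin n), (∏ i ∈ s, I i).ideal U = ∏ i ∈ s, (I i).ideal U := fun s => by
    induction s using Finset.induction with
    | empty => rw [Finset.prod_empty, Finset.prod_empty, Scheme.IdealSheafData.one_eq_top, Scheme.IdealSheafData.ideal_top, Ideal.one_eq_top]; rfl
    | insert a s hs ih =>
      rw [Finset.prod_insert hs, Finset.prod_insert hs, Scheme.IdealSheafData.ideal_mul, Pi.mul_apply, ih]
  rw [hp, Scheme.IdealSheafData.ideal_iInf, iInf_apply, Ideal.prod_eq_iInf_of_pairwise_isCoprime]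
  · simp
  · intro i _ l _ hil
    rw [Function.onFun, Ideal.isCoprime_iff_sup_eq]
    have hsup : I i ⊔ I l = ⊤ := by
      rw [← Scheme.IdealSheafData.support_eq_bot_iff, Scheme.IdealSheafData.support_sup]
      exact Closeds.ext (Set.disjoint_iff_inter_eq_empty.1 (h hil))
    have := congrArg (fun J : X.IdealSheafData => J.ideal U) hsup
    simpa [Scheme.IdealSheafData.ideal_sup, Scheme.IdealSheafData.ideal_top] using this

include hd in
/-- The class of a divisor of distinct points. -/
theorem divCl_points {n : ℕ} (τ : Fin (n + 1) → {τ : Spec (CommRingCat.of k) ⟶ C // τ ≫ fX = 𝟙 _})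
    (hinj : Function.Injective τ) :
    ∃ hJ : BlowUp.IsEffCartierIdeal (⨅ i, (τ i).1.ker), divCl _ hJ = ∏ i, delta k (τ i) hd := by
  haveI := CurveRR.isNoetherian_of_proper k C
  have hc : Curve.IsSmoothProperCurve k C fX := ⟨‹_›, ‹_›, ‹_›, hd⟩
  have hE : ∀ i, BlowUp.IsEffCartierIdeal (τ i).1.ker := fun i => effCartier_rat fX hc (τ i).1 (τ i).2
  have hprod : ∏ i, (τ i).1.ker = ⨅ i, (τ i).1.ker := prod_eq_iInf_of_disjoint _ fun i l hil => by
    haveI : ∀ m, IsClosedImmersion (τ m).1 := fun m =>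
      isClosedImmersion_of_comp_eq_id fX (τ m).1 (τ m).2
    haveI : Subsingleton ↥(Spec (CommRingCat.of k)) := inferInstanceAs (Subsingleton (PrimeSpectrum k))
    show Disjoint _ _
    rw [Set.disjoint_iff]
    rintro p ⟨h1, h2⟩
    rw [Scheme.Hom.support_ker] at h1 h2
    have h1' : p ∈ Set.range (τ i).1 := (τ i).1.isClosedEmbedding.isClosed_range.closure_eq ▸ h1
    have h2' : p ∈ Set.range (τ l).1 := (τ l).1.isClosedEmbedding.isClosed_range.closure_eq ▸ h2
    obtain ⟨a, rfl⟩ := h1'
    obtain ⟨b, hb⟩ := h2'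
    refine hil (hinj (Subtype.ext (ext_of_apply_closedPoint_eq fX (τ i).2 (τ l).2 ?_)))
    rw [Subsingleton.elim (α := ↥(Spec (CommRingCat.of k))) b (IsLocalRing.closedPoint k),
      Subsingleton.elim (α := ↥(Spec (CommRingCat.of k))) a (IsLocalRing.closedPoint k)] at hb
    exact hb.symm
  refine ⟨hprod ▸ cartier_prod_succ _ hE, ?_⟩
  rw [divCl_congr hprod.symm _ (cartier_prod_succ _ hE), divCl_prod _ hE]
  rfl

variable {σ : {τ : Spec (CommRingCat.of k) ⟶ C // τ ≫ (C ↘ Spec (CommRingCat.of k)) = 𝟙 _}} {J : Over (Spec (CommRingCat.of k))} [GrpObj J]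
  [IsCommMonObj J] {j : Over.mk (C ↘ Spec (CommRingCat.of k)) ⟶ J} (D : JacData σ J j)

include hd in
theorem cl_sumMap (r : ℕ) (z : (𝟙_ (Over (Spec (CommRingCat.of k)))) ⟶ Over.mk (WidePullback.base fun (_ : Fin r) => fX)) :
    D.cl (z ≫ sumMap j r) = (∏ i, delta k (⟨(z ≫ (Over.homMk (WidePullback.π (fun (_ : Fin r) => fX) i)
        (WidePullback.π_arrow (fun (_ : Fin r) => fX) i) : Over.mk (WidePullback.base fun (_ : Fin r) => fX) ⟶ Over.mk fX)).left,
      Over.w (z ≫ (Over.homMk (WidePullback.π (fun (_ : Fin r) => fX) i)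
        (WidePullback.π_arrow (fun (_ : Fin r) => fX) i) : Over.mk (WidePullback.base fun (_ : Fin r) => fX) ⟶ Over.mk fX))⟩ :
        {τ : Spec (CommRingCat.of k) ⟶ C // τ ≫ fX = 𝟙 _}) hd) * (delta k σ hd ^ r)⁻¹ := by
  let π : Fin r → (Over.mk (WidePullback.base fun (_ : Fin r) => fX) ⟶ Over.mk fX) := fun i =>
    Over.homMk (WidePullback.π (fun (_ : Fin r) => fX) i) (WidePullback.π_arrow (fun (_ : Fin r) => fX) i)
  let pre : (Over.mk (WidePullback.base fun (_ : Fin r) => fX) ⟶ J) →* ((𝟙_ (Over (Spec (CommRingCat.of k)))) ⟶ J) :=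
    MonoidHom.mk' (fun p => z ≫ p) (MonObj.comp_mul z)
  show D.cl (pre ((List.ofFn fun i => π i ≫ j).prod)) = _
  rw [List.prod_ofFn, map_prod, map_prod, ← Fin.prod_const, ← Finset.prod_inv_distrib, ← Finset.prod_mul_distrib]
  refine Finset.prod_congr rfl fun i _ => ?_
  rw [← D.cl_abel hd]
  rfl

include hd D in
/-- An open set of classes of divisors of distinct points with one section. -/
theorem exists_open_points {g : ℕ} (hg : Curv2.genus k C = g) :
    ∃ W : J.left.Opens, (W : Set J.left).Nonempty ∧ IrreducibleSpace J.left ∧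
      ∀ x : (𝟙_ (Over (Spec (CommRingCat.of k)))) ⟶ J, rpt x ∈ W →
        ∃ τ : Fin g → {τ : Spec (CommRingCat.of k) ⟶ C // τ ≫ fX = 𝟙 _}, Function.Injective τ ∧
          D.cl x * delta k σ hd ^ g = ∏ i, delta k (τ i) hd ∧ hC k (∏ i, delta k (τ i) hd) 0 = 1 := by
  haveI := D.proper
  let P : Over (Spec (CommRingCat.of k)) := Over.mk (WidePullback.base fun (_ : Fin g) => fX)
  haveI hPp : IsProper P.hom :=
    SymCurve.prop_fibPow_base @IsProper (fun φ _ => inferInstance) fX inferInstance g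
  haveI : IrreducibleSpace P.left := irreducibleSpace_powOver fX g
  let s : P ⟶ J := sumMap j g
  haveI : IsProper (s.left ≫ J.hom) := by rw [Over.w s]; exact hPp
  haveI : IsProper s.left := IsProper.of_comp s.left J.hom
  have hsurj : Set.range s.left.base = Set.univ := by
    refine eq_of_rpt s.left.isClosedMap.isClosed_range isClosed_univ fun x => iff_of_true ?_ trivial
    rw [D.mem_range hd]
    have h := hC_sub k hd hg (D.cl x * delta k σ hd ^ g)
    rw [D.deg_shift_one hd] at h
    omega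
  haveI hJirr : IrreducibleSpace J.left := by
    haveI : Nonempty J.left := ⟨s.left (Classical.arbitrary P.left)⟩
    haveI : PreirreducibleSpace J.left := ⟨by
      rw [← hsurj, ← Set.image_univ]
      exact (PreirreducibleSpace.isPreirreducible_univ).image _ s.left.continuous.continuousOn⟩
    exact ⟨inferInstance⟩
  -- good classes
  let cJ := D.ξ * pull (pullback.fst fX J.hom) (delta k σ hd ^ g)
  let V : J.left.Opens := ⟨{y | GoodC fX J cJ y}, isOpen_goodC fX J cJ⟩
  have hVmem : ∀ x : (𝟙_ (Over (Spec (CommRingCat.of k)))) ⟶ J, rpt x ∈ V ↔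
      hC k (D.cl x * delta k σ hd ^ g) 0 = 1 ∧ hC k (D.cl x * delta k σ hd ^ g) 1 = 0 := fun x => by
    refine (goodC_iff_cT cJ (x : onePt k ⟶ J)).trans ?_
    rw [cT_xi]
  obtain ⟨ρ, hρ0, hρ1⟩ := exists_good_points k hd g hg
  let tup : (Fin g → {τ : Spec (CommRingCat.of k) ⟶ C // τ ≫ fX = 𝟙 _}) → ((𝟙_ (Over (Spec (CommRingCat.of k)))) ⟶ P) :=
    fun φ => tupleHom fX g fun i => Over.homMk (φ i).1 (φ i).2
  have htup : ∀ φ i, (tup φ ≫ (Over.homMk (WidePullback.π (fun (_ : Fin g) => fX) i)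
      (WidePullback.π_arrow (fun (_ : Fin g) => fX) i) : P ⟶ Over.mk fX)).left = (φ i).1 := fun φ i =>
    congrArg CommaMorphism.left (tupleHom_proj fX g
      (fun i => (Over.homMk (φ i).1 (φ i).2 : (𝟙_ (Over (Spec (CommRingCat.of k)))) ⟶ Over.mk fX)) i)
  have hsum : ∀ φ, D.cl (tup φ ≫ s) * delta k σ hd ^ g = ∏ i, delta k (φ i) hd := fun φ => by
    rw [cl_sumMap hd D g (tup φ), inv_mul_cancel_right]
    exact Finset.prod_congr rfl fun i _ => congrArg (delta k · hd) (Subtype.ext (htup φ i))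
  let Og : P.left.Opens := s.left ⁻¹ᵁ V
  have hOg : (Og : Set P.left).Nonempty := ⟨rpt (tup ρ), by
    show s.left (rpt (tup ρ)) ∈ V
    rw [map_rpt, hVmem, hsum]
    exact ⟨hρ0, hρ1⟩⟩
  -- distinct coordinates
  let q : Fin g × Fin g → (P.left ⟶ pullback fX fX) := fun il =>
    pullback.lift (WidePullback.π (fun (_ : Fin g) => fX) il.1) (WidePullback.π (fun (_ : Fin g) => fX) il.2)
      ((WidePullback.π_arrow _ il.1).trans (WidePullback.π_arrow _ il.2).symm)
  let Dg : Set ↥(pullback fX fX) := Set.range (pullback.diagonal fX)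
  have hDg : IsClosed Dg := (pullback.diagonal fX).isClosedEmbedding.isClosed_range
  have hq : ∀ φ i l, q (i, l) (rpt (tup φ)) ∈ Dg ↔ φ i = φ l := fun φ i l => by
    constructor
    · rintro ⟨c, hc⟩
      refine Subtype.ext (ext_of_apply_closedPoint_eq fX (φ i).2 (φ l).2 ?_)
      have h1 := congrArg (pullback.fst fX fX) hc
      have h2 := congrArg (pullback.snd fX fX) hc
      simp only [q, ← Scheme.Hom.comp_apply, pullback.diagonal_fst, pullback.diagonal_snd, pullback.lift_fst,
        pullback.lift_snd] at h1 h2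
      rw [← htup φ i, ← htup φ l]
      exact h1.symm.trans h2
    · intro h
      refine ⟨(φ i).1 (IsLocalRing.closedPoint k), ?_⟩
      show pullback.diagonal fX ((φ i).1 _) = q (i, l) ((tup φ).left (IsLocalRing.closedPoint k))
      rw [← Scheme.Hom.comp_apply, ← Scheme.Hom.comp_apply]
      refine congrArg (fun m : Spec (CommRingCat.of k) ⟶ pullback fX fX => m (IsLocalRing.closedPoint k)) ?_
      refine pullback.hom_ext ?_ ?_ <;> simp only [q, Category.assoc, pullback.diagonal_fst, pullback.diagonal_snd,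
        pullback.lift_fst, pullback.lift_snd, Category.comp_id]
      · exact (htup φ i).symm
      · rw [h]; exact (htup φ l).symm
  let Oil : Fin g × Fin g → P.left.Opens := fun il =>
    if il.1 = il.2 then ⊤ else ⟨(q il) ⁻¹' Dgᶜ, hDg.isOpen_compl.preimage (q il).continuous⟩
  have hOil : ∀ il, (Oil il : Set P.left).Nonempty := fun il => by
    obtain ⟨i, l⟩ := il
    by_cases hil : i = l
    · simp only [Oil, if_pos hil]
      exact ⟨Classical.arbitrary _, trivial⟩
    · simp only [Oil, if_neg hil]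
      obtain ⟨A, -, -⟩ := exists_point_avoid k hd ⊤ ⟨genericPoint C, trivial⟩ Fin.elim0
      obtain ⟨B, -, hB⟩ := exists_point_avoid k hd ⊤ ⟨genericPoint C, trivial⟩ fun _ : Fin 1 => A
      refine ⟨rpt (tup (Function.update (fun _ => A) l B)), fun h => hB 0 ?_⟩
      have := (hq _ i l).1 h
      rw [Function.update_self, Function.update_of_ne hil] at this
      exact this.symm
  let O : P.left.Opens := Og ⊓ Finset.univ.inf Oil
  have hgen : ∀ U : P.left.Opens, (U : Set P.left).Nonempty → genericPoint P.left ∈ U := fun U hU =>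
    ((genericPoint_spec P.left).mem_open_set_iff U.2).2 (by simpa using hU)
  have hgO : genericPoint P.left ∈ O := ⟨hgen _ hOg, by
    show genericPoint P.left ∈ ((Finset.univ.inf Oil : P.left.Opens) : Set P.left)
    rw [Opens.coe_finset_inf, Finset.inf_set_eq_iInter]
    exact Set.mem_iInter₂.2 fun il _ => hgen _ (hOil il)⟩
  let PO : Over (Spec (CommRingCat.of k)) := Over.mk (O.ι ≫ P.hom)
  let sO : PO ⟶ J := Over.homMk (O.ι ≫ s.left) (by
    show (O.ι ≫ s.left) ≫ J.hom = O.ι ≫ P.hom
    rw [Category.assoc, Over.w s])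
  haveI : IrreducibleSpace PO.left := by
    haveI : Nonempty PO.left := ⟨⟨_, hgO⟩⟩
    haveI : PreirreducibleSpace PO.left := O.ι.isOpenEmbedding.preirreducibleSpace
    exact ⟨inferInstance⟩
  haveI : LocallyOfFiniteType PO.hom := inferInstanceAs (LocallyOfFiniteType (O.ι ≫ P.hom))
  haveI : IsLocallyNoetherian P.left := LocallyOfFiniteType.isLocallyNoetherian P.hom
  haveI : QuasiCompact PO.hom := inferInstanceAs (QuasiCompact (O.ι ≫ P.hom))
  have hdense : DenseRange sO.left := by
    have h1 : Dense (O : Set P.left) := O.2.dense ⟨_, hgO⟩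
    have h2 := (Function.Surjective.denseRange (Set.range_eq_univ.1 hsurj)).dense_image s.left.continuous h1
    refine h2.mono ?_
    rintro _ ⟨p, hp, rfl⟩
    exact ⟨⟨p, hp⟩, rfl⟩
  obtain ⟨W, hW, hWs⟩ := Chev.Borel.exists_open_subset_range sO hdense
  refine ⟨W, hW, hJirr, fun x hx => ?_⟩
  obtain ⟨z, hz⟩ := Chev.Borel.exists_rp_of_mem_range sO x (hWs hx)
  let z' : (𝟙_ (Over (Spec (CommRingCat.of k)))) ⟶ P :=
    z ≫ (Over.homMk O.ι rfl : PO ⟶ P)
  let φ : Fin g → {τ : Spec (CommRingCat.of k) ⟶ C // τ ≫ fX = 𝟙 _} := fun i =>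
    ⟨(z' ≫ (Over.homMk (WidePullback.π (fun (_ : Fin g) => fX) i)
      (WidePullback.π_arrow (fun (_ : Fin g) => fX) i) : P ⟶ Over.mk fX)).left, Over.w _⟩
  have hx' : z' ≫ s = x := by
    rw [← hz, Category.assoc]
    refine congrArg (z ≫ ·) (Over.OverMorphism.ext ?_)
    rfl
  have hcl : D.cl x * delta k σ hd ^ g = ∏ i, delta k (φ i) hd := by
    rw [← hx', cl_sumMap hd D g z', inv_mul_cancel_right]
  have hzO : rpt z' ∈ O := (z.left (IsLocalRing.closedPoint k)).2
  refine ⟨φ, fun i l h => ?_, hcl, ?_⟩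
  · by_contra hil
    have ht : tup φ = z' := Over.OverMorphism.ext (WidePullback.hom_ext _ _ _ (fun m => htup φ m)
      (Over.w (tup φ) |>.trans (Over.w z').symm))
    have h1 : rpt z' ∈ ((Finset.univ.inf Oil : P.left.Opens) : Set P.left) := hzO.2
    rw [Opens.coe_finset_inf, Finset.inf_set_eq_iInter] at h1
    have h2 : rpt z' ∈ Oil (i, l) := Set.mem_iInter₂.1 h1 (i, l) (Finset.mem_univ _)
    simp only [Oil, if_neg hil] at h2
    rw [← ht] at h2
    exact h2 ((hq φ i l).2 h)
  · have h1 : s.left (rpt z') ∈ V := hzO.1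
    rw [map_rpt, hx', hVmem, hcl] at h1
    exact h1.1

variable {g : ℕ}

include hd in
/-- **The pullback of the theta class along a reflected Abel map is the class of the point.** -/
theorem pull_theta_eq (hg : Curv2.genus k C = g) (hg1 : 1 ≤ g)
    (hW : IsClosed (Set.range (sumMap j (g - 1)).left.base))
    (hI : BlowUp.IsEffCartierIdeal (Scheme.IdealSheafData.vanishingIdeal (X := J.left) ⟨_, hW⟩))
    [GeometricallyIntegral J.hom] (d : (𝟙_ (Over (Spec (CommRingCat.of k)))) ⟶ J) :
    pull (j ≫ reflect J d).left (divCl _ hI) = D.cl d * delta k σ hd ^ g := by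
  haveI := D.proper
  obtain ⟨n, rfl⟩ : ∃ n, g = n + 1 := ⟨g - 1, by omega⟩
  set θ := divCl _ hI with hθ
  let T : ((𝟙_ (Over (Spec (CommRingCat.of k)))) ⟶ J) → PicLoc.PicSet J.left := fun a => pull (Jac.transl J a).left θ
  have sqr : ∀ a b, T (a * b) * θ = T a * T b := fun a b => by
    obtain ⟨L, hL, hLc⟩ := PicGrp.exists_eq_cls θ
    simp only [T, hLc, pull_cls]
    exact (PicGrp.cls_eq_cls_iff (TMul.isInvertible_tensorMod (PicLoc.isInvertible_pullback _ hL) hL)
      (TMul.isInvertible_tensorMod (PicLoc.isInvertible_pullback _ hL) (PicLoc.isInvertible_pullback _ hL))).2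
      (Groth.Agent.S8120.result k J L hL a b)
  let mC : ((𝟙_ (Over (Spec (CommRingCat.of k)))) ⟶ J) → (C ⟶ J.left) := fun a => (j ≫ reflect J a).left
  have hΨ : ∀ a, pull (mC a) θ = pull (j ≫ (𝟙 J)⁻¹).left (T a) := fun a => by
    simp only [T, mC]
    rw [pull_pull, ← Over.comp_left, Category.assoc]
    rfl
  have hT1 : T 1 = θ := by simp only [T, transl_one]; exact pull_id _
  let F : ((𝟙_ (Over (Spec (CommRingCat.of k)))) ⟶ J) → PicLoc.PicSet C := fun a =>
    pull (mC a) θ * (D.cl a * delta k σ hd ^ (n + 1))⁻¹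
  have hF : ∀ a b, F (a * b) * F 1 = F a * F b := fun a b => by
    have h := congrArg (pull (j ≫ (𝟙 J)⁻¹).left) (sqr a b)
    rw [map_mul, map_mul] at h
    simp only [F, map_mul, map_one]
    rw [hΨ (a * b), hΨ 1, hΨ a, hΨ b, hT1]
    rw [eq_mul_inv_of_mul_eq h]
    apply Additive.ofMul.injective; simp only [ofMul_mul, ofMul_inv, ofMul_pow, ofMul_one]; module
  obtain ⟨W, hWn, hirr, hWp⟩ := exists_open_points hd D hg
  have hFW : ∀ x, rpt x ∈ W → F x = 1 := fun x hx => by
    obtain ⟨τ, hinj, hcl, h0⟩ := hWp x hx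
    obtain ⟨hJ, hJc⟩ := divCl_points hd τ hinj
    have key := comap_theta_eq hd D hg hg1 x τ hinj hcl h0 hW
    simp only [F, mC]
    rw [mul_inv_eq_one, hθ, pull_divCl _ hI (by rw [key]; exact hJ), divCl_congr key _ hJ, hJc, hcl]
  haveI : JacobsonSpace J.left := LocallyOfFiniteType.jacobsonSpace J.hom
  obtain ⟨p, hp, hpc⟩ := nonempty_inter_closedPoints hWn W.2.isLocallyClosed
  obtain ⟨a0, rfl⟩ := exists_rpt hpc
  let W' : J.left.Opens := (Jac.transl J (d * a0⁻¹)).left ⁻¹ᵁ W
  have hW'n : (W' : Set J.left).Nonempty := by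
    refine ⟨rpt (a0 * (d * a0⁻¹)⁻¹), ?_⟩
    show (Jac.transl J (d * a0⁻¹)).left (rpt (a0 * (d * a0⁻¹)⁻¹)) ∈ W
    rw [map_rpt, rp_transl, inv_mul_cancel_right]
    exact hp
  obtain ⟨p, hp', hpc⟩ := nonempty_inter_closedPoints
    ((hirr.toPreirreducibleSpace.isPreirreducible_univ W W' W.2 W'.2 (by simpa using hWn) (by simpa using hW'n)).mono
      Set.inter_subset_right)
    (W.2.inter W'.2).isLocallyClosed
  obtain ⟨c, rfl⟩ := exists_rpt hpc
  have hb : rpt (c * (d * a0⁻¹)) ∈ W := by
    have : (Jac.transl J (d * a0⁻¹)).left (rpt c) ∈ W := hp'.2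
    rwa [map_rpt, rp_transl] at this
  have e1 := hF a0 (c * (d * a0⁻¹))
  have e2 := hF d c
  rw [show a0 * (c * (d * a0⁻¹)) = d * c by
    rw [mul_comm d a0⁻¹, mul_left_comm c, mul_inv_cancel_left, mul_comm] ] at e1
  rw [hFW _ hp, hFW _ hb, one_mul] at e1
  rw [hFW _ hp'.1, mul_one, e1] at e2
  exact mul_inv_eq_one.1 e2.symm

end Groth.Agent.PicTheta
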