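import Groth.Agent.PicTheta.Principal
import Groth.Agent.AVIndex.Index
import Groth.Agent.Nakai.SurfSeq

/-!
Cohomology of the powers of an effective principal class.
-/

set_option autoImplicit false
set_option backward.isDefEq.respectTransparency false
set_option backward.isDefEq.respectTransparency.types false
set_option linter.style.haveILetI false
set_option linter.unusedSectionVars false
set_option maxHeartbeats 1000000

universe u

open CategoryTheory CategoryTheory.Limits AlgebraicGeometry TopologicalSpace MonoidalCategory CartesianMonoidalCategory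
open PicF
open scoped MonObj
open Groth.Agent.W7Cube (pull pull_pull pull_cls pc pc_id)
open Groth.Agent.PicCurve

attribute [local instance] Groth.Agent.W7Cube.law Groth.Agent.AVDeg.overInst

noncomputable section

namespace Groth.Agent.PicTheta

/-- A section cutting out an effective Cartier divisor is not zero. -/
theorem section_ne_zero {X : Scheme.{u}} [IsIntegral X] {E : X.Modules} (hE : PicF.IsInvertible E)
    (s : Coh.structureModule X ⟶ E) (hs : BlowUp.IsEffCartierIdeal (PicF2.zeroScheme E s)) : s ≠ 0 := by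
  rintro rfl
  obtain ⟨z, hz⟩ := genLocus_nonempty_of_effCartier hE _ hs
  obtain ⟨U₁, g₁, hx₁, hg₁⟩ := TMul.exists_isGen hE z
  obtain ⟨U, hU, hzU, hUle⟩ := exists_isAffineOpen_mem_and_subset (x := z) (U := U₁) hx₁
  replace hUle : U ≤ U₁ := hUle
  have hval : TMul.val (0 : Coh.structureModule X ⟶ E) U = (0 : Γ(X, U)) • Groth.Agent.QC.res E hUle g₁ :=
    (zero_smul _ _).symm
  have h := (TMul.mem_genLocus_iff_isUnit (0 : Coh.structureModule X ⟶ E) (hg₁.res hUle) hval hzU).1 hz
  rw [map_zero] at h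
  exact not_isUnit_zero h

variable {k : Type u} [Field k] [IsAlgClosed k] {J : Over (Spec (CommRingCat.of k))} [GrpObj J] [IsCommMonObj J]
  [IsProper J.hom] [Smooth J.hom] [GeometricallyIntegral J.hom]

theorem finite_pow_stab (L : PicLoc.PicSet J.left)
    (hst : ∀ d : (𝟙_ (Over (Spec (CommRingCat.of k)))) ⟶ J, ∀ n : ℕ, pull (Jac.transl J d).left (L ^ n) = L ^ n → d ^ n = 1)
    {n : ℕ} (hn : n ≠ 0) :
    {b : (𝟙_ (Over (Spec (CommRingCat.of k)))) ⟶ J | pc (L ^ n) (𝟙 J * (toUnit J ≫ b)) = L ^ n}.Finite := by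
  haveI := AVDeg.isFinite_pow_id (A := J) hn
  refine (AVIndex.finite_points_preimage (𝟙 J ^ n) {1} (Set.finite_singleton _)).subset fun b hb => ?_
  rw [Set.mem_setOf_eq, Set.mem_singleton_iff, MonObj.comp_pow, Category.comp_id]
  exact hst b n hb

/-- Euler characteristics of powers. -/
theorem χc_pow {g : ℕ} (hg : topologicalKrullDim J.left = (g : WithBot ℕ∞)) (L : PicLoc.PicSet J.left) (m : ℕ) :
    AVEuler.χc (L ^ m) = (m : ℤ) ^ g * AVEuler.χc L := by
  have h := (AVDeg.topLin k hg.le).map_smul_univ (fun _ : Fin g => (m : ℤ)) (fun _ : Fin g => Additive.ofMul L)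
  simp only [AVDeg.topLin_apply, toMul_zsmul, toMul_ofMul, zpow_natCast, Finset.prod_const, Finset.card_univ,
    Fintype.card_fin, zsmul_eq_mul, Int.cast_pow, Int.cast_natCast] at h
  have h1 : (AVEuler.χc (L ^ m) : ℚ) = (((m : ℤ) ^ g * AVEuler.χc L : ℤ) : ℚ) := by
    push_cast
    rw [AVEuler.cast_eq hg, AVEuler.cast_eq hg, h, mul_div_assoc]
  exact_mod_cast h1

/-- The cohomology of the powers of an effective class of Euler characteristic `±1` with finite stabilisers. -/
theorem cohomology_pow {g : ℕ} (hgJ : topologicalKrullDim J.left = (g : WithBot ℕ∞)) {L : J.left.Modules}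
    (hL : PicF.IsInvertible L) {I : J.left.IdealSheafData} (hI : BlowUp.IsEffCartierIdeal I)
    (hLI : PicGrp.cls L hL = divCl I hI) (hχ : AVEuler.χc (PicGrp.cls L hL) ^ 2 = 1)
    (hst : ∀ d : (𝟙_ (Over (Spec (CommRingCat.of k)))) ⟶ J, ∀ n : ℕ,
      pull (Jac.transl J d).left (PicGrp.cls L hL ^ n) = PicGrp.cls L hL ^ n → d ^ n = 1)
    {M : J.left.Modules} (hM : PicF.IsInvertible M) (hML : PicGrp.cls M hM = (PicGrp.cls L hL)⁻¹) :
    AVEuler.χc (PicGrp.cls L hL) = 1 ∧ ∀ m : ℕ, 1 ≤ m →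
      (∀ i, 1 ≤ i → Subsingleton (Coh.HH J.left (CohB1.tensorPow L m) i)) ∧
      (∀ i, i ≠ g → Subsingleton (Coh.HH J.left (CohB1.tensorPow M m) i)) ∧
      CurveRR.h k (CohB1.tensorPow L m) 0 = m ^ g ∧ CurveRR.h k (CohB1.tensorPow M m) g = m ^ g := by
  classical
  haveI := CurveRR.isNoetherian_of_proper k J.left
  haveI : IsIntegral J.left := AVDeg.isIntegral_av J
  have main : ∀ m : ℕ, 1 ≤ m →
      (∀ i, 1 ≤ i → Subsingleton (Coh.HH J.left (CohB1.tensorPow L m) i)) ∧
      (∀ i, i ≠ g → Subsingleton (Coh.HH J.left (CohB1.tensorPow M m) i)) ∧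
      0 < CurveRR.h k (CohB1.tensorPow L m) 0 ∧
      (CurveRR.h k (CohB1.tensorPow L m) 0 : ℤ) = (m : ℤ) ^ g * AVEuler.χc (PicGrp.cls L hL) ∧
      (-1) ^ g * (CurveRR.h k (CohB1.tensorPow M m) g : ℤ) = AVEuler.χc (PicGrp.cls L hL ^ m)⁻¹ := by
    intro m hm
    have hLm := isInvertible_tensorPow hL m
    have hMm := isInvertible_tensorPow hM m
    have hcL : PicGrp.cls _ hLm = PicGrp.cls L hL ^ m := cls_tensorPow hL m
    have hcM : PicGrp.cls _ hMm = (PicGrp.cls L hL ^ m)⁻¹ := by rw [cls_tensorPow hM m, hML, inv_pow]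
    haveI : IsFinite (𝟙 J : J ⟶ J).left := inferInstanceAs (IsFinite (𝟙 J.left))
    haveI : Surjective (𝟙 J : J ⟶ J).left := inferInstanceAs (Surjective (𝟙 J.left))
    obtain ⟨i, hi, h1, h2⟩ := AVIndex.exists_index (𝟙 J) hLm hMm (by rw [pc_id, hcL, hcM])
      (by rw [hcL]; exact finite_pow_stab _ hst (by omega)) g hgJ
    -- a section
    obtain ⟨n, rfl⟩ : ∃ n, m = n + 1 := ⟨m - 1, by omega⟩
    have hJc := cartier_prod_succ (fun _ : Fin (n + 1) => I) fun _ => hI
    obtain ⟨s, hs⟩ := AbelMap.exists_section hJc hLm (isInverseOf_of_cls_eq hLm hJc (by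
      rw [hcL, hLI, divCl_prod (fun _ : Fin (n + 1) => I) fun _ => hI, Finset.prod_const, Finset.card_univ,
        Fintype.card_fin]))
    have hpos := Nakai.h0_pos_of_section (k := k) (K0Coh.isCoh_of_isFinLocFree fun y =>
      let ⟨U, hU, h⟩ := CurveRR.isFinLocFreeOfRank_one hLm y; ⟨U, 1, hU, h⟩)
      (section_ne_zero hLm s (by rw [hs]; exact hJc))
    have hi0 : i = 0 := by
      by_contra hne
      exact hpos.ne' (CurveRR.h_eq_zero ((h1 0).2 (Ne.symm hne)))
    subst hi0
    refine ⟨fun p hp => (h1 p).2 (by omega), fun p hp => (h2 p).2 (by omega), hpos, ?_, ?_⟩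
    · rw [← χc_pow hgJ, ← hcL, AVEuler.χc_cls, CurveRR.euler_eq_sum (k := k) _ 1 fun p hp => (h1 p).2 (by omega)]
      simp
    · rw [← hcM, AVEuler.χc_cls, CurveRR.euler_eq_sum (k := k) _ (g + 1) fun p hp => (h2 p).2 (by omega),
        Finset.sum_eq_single g (fun p _ hp => by rw [CurveRR.h_eq_zero ((h2 p).2 (by omega))]; simp)
          (fun h => absurd (Finset.self_mem_range_succ g) h)]
  have hone : AVEuler.χc (PicGrp.cls L hL) = 1 := by
    obtain ⟨-, -, hpos, h0, -⟩ := main 1 le_rfl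
    rw [Nat.cast_one, one_pow, one_mul] at h0
    rcases sq_eq_one_iff.1 hχ with h | h
    · exact h
    · omega
  refine ⟨hone, fun m hm => ?_⟩
  obtain ⟨ha, hb, -, h0, hg'⟩ := main m hm
  rw [hone, mul_one] at h0
  rw [AVEuler.χc_inv hgJ, χc_pow hgJ, hone, mul_one] at hg'
  exact ⟨ha, hb, by exact_mod_cast h0, by exact_mod_cast mul_left_cancel₀ (pow_ne_zero g (by norm_num)) hg'⟩

end Groth.Agent.PicTheta
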