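import Groth.Agent.PicTheta.ThetaLocus
import Groth.Agent.PicTheta.ThetaCoh
import Groth.Agent.Castel.Ample

/-!
The theta line bundle of a class of degree `g - 1` on the Jacobian over an algebraically closed field.
-/

set_option autoImplicit false
set_option backward.isDefEq.respectTransparency false
set_option backward.isDefEq.respectTransparency.types false
set_option linter.style.haveILetI false
set_option linter.unusedSectionVars false
set_option maxHeartbeats 1000000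

universe u

open CategoryTheory CategoryTheory.Limits AlgebraicGeometry TopologicalSpace MonoidalCategory CartesianMonoidalCategory
open PicF
open scoped MonObj
open Groth.Agent.W7Cube (pull pull_pull pull_cls)
open Groth.Agent.PicCurve

attribute [local instance] Groth.Agent.W7Cube.law

noncomputable section

namespace Groth.Agent.PicTheta

variable {k : Type u} [Field k] [IsAlgClosed k] {C : Scheme.{u}} [C.Over (Spec (CommRingCat.of k))]
  [IsProper (C ↘ Spec (CommRingCat.of k))] [Smooth (C ↘ Spec (CommRingCat.of k))]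
  [GeometricallyConnected (C ↘ Spec (CommRingCat.of k))] [GeometricallyIrreducible (C ↘ Spec (CommRingCat.of k))]
  [SmoothOfRelativeDimension 1 (C ↘ Spec (CommRingCat.of k))] [IsIntegral C]
  (hd : topologicalKrullDim C = 1)

local notation "fX" => (C ↘ Spec (CommRingCat.of k))

include hd in
/-- The data attached to a theta line bundle. -/
theorem exists_theta_data {g : ℕ} (hg : Curv2.genus k C = g) (hg1 : 1 ≤ g) {J : Over (Spec (CommRingCat.of k))}
    [GrpObj J] [IsCommMonObj J] (ψ : (ModFun.PicDeg fX 0).Hom ⊤ J) (hJ : Jac.IsJacobian fX ⊤ J ψ)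
    {N : C.Modules} (hN : PicF.IsInvertible N) (hNdeg : Curv2.deg k C N 1 = (g : ℤ) - 1)
    {ΘJ : J.left.Modules} (hΘJ : Jac.IsThetaLB fX 0 ψ N ΘJ) :
    ∃ (σ : {τ : Spec (CommRingCat.of k) ⟶ C // τ ≫ fX = 𝟙 _}) (j : Over.mk fX ⟶ J) (D : JacData σ J j)
      (_ : IsProper J.hom) (_ : Smooth J.hom) (_ : GeometricallyIntegral J.hom)
      (I : J.left.IdealSheafData) (hI : BlowUp.IsEffCartierIdeal I),
      PicGrp.cls ΘJ hΘJ.1 = divCl I hI ∧
      ∀ d, pull (onC (j ≫ Jac.transl J d)) (PicGrp.cls ΘJ hΘJ.1) = (D.cl d)⁻¹ * pull (onC j) (PicGrp.cls ΘJ hΘJ.1) := by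
  haveI := CurveRR.isNoetherian_of_proper k C
  obtain ⟨σ, -, -⟩ := exists_point_avoid k hd ⊤ ⟨genericPoint C, trivial⟩ Fin.elim0
  obtain ⟨ξ, hp, hs, hgi, h1, h0, hc, hmul, hψ⟩ := exists_jacobian_class fX hd σ.1 σ.2 (by omega) J ψ hJ
  have hdim : ∀ z, topologicalKrullDim ↥(Scheme.Hom.fiber fX z) = 1 := fun z => (dim_fiber_spec fX z).trans hd
  obtain ⟨j, hj, -⟩ := hc (Over.mk fX) (abelCl fX σ.1 σ.2 (Over.mk fX) (𝟙 C) (Category.id_comp fX))
    (rigify_mem fX σ.1 σ.2 _ _) (zero_abelCl fX σ.1 σ.2 hdim _ _ _)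
  let D : JacData σ J j := ⟨ξ, hp, h1, h0, hc, hmul, hj⟩
  haveI := hp
  haveI := hs
  haveI := hgi
  obtain ⟨a, ha⟩ := D.exists_cl hd (delta k σ hd ^ (g - 1) * (PicGrp.cls N hN)⁻¹) (by
    rw [degP_mul k hd, degP_inv' k hd, degP_delta_pow k hd, degP_cls, hNdeg]
    omega)
  have hlocus : Jac.thetaLocus fX 0 ψ N = symSet j (g - 1) a := thetaLocus_eq hd D ψ hψ hN (g - 1) a (by
    rw [ha, mul_inv_rev, inv_inv, inv_mul_cancel_right])
  obtain ⟨hI, hL⟩ := exists_translate_theta hd D hg hg1 a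
  have hinv : ClSub.IsInverseOf ΘJ (ClSub.idealMod (Scheme.IdealSheafData.vanishingIdeal (X := J.left)
      ⟨symSet j (g - 1) a, D.isClosed_symSet (g - 1) a⟩)) := by
    have h := hΘJ.2
    rwa [show (⟨Jac.thetaLocus fX 0 ψ N, isClosed_closure⟩ : Closeds J.left) =
      ⟨symSet j (g - 1) a, D.isClosed_symSet (g - 1) a⟩ from Closeds.ext hlocus] at h
  have hcl := cls_eq_divCl hΘJ.1 hI hinv
  exact ⟨σ, j, D, hp, hs, hgi, _, hI, hcl, by rw [hcl]; exact hL⟩

include hd in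
/-- **Cohomology of the powers of the theta line bundle.** -/
theorem theta_powers {g : ℕ} (hg : Curv2.genus k C = g) (hg1 : 1 ≤ g) {J : Over (Spec (CommRingCat.of k))}
    [GrpObj J] [IsCommMonObj J] (ψ : (ModFun.PicDeg fX 0).Hom ⊤ J) (hJ : Jac.IsJacobian fX ⊤ J ψ)
    {N : C.Modules} (hN : PicF.IsInvertible N) (hNdeg : Curv2.deg k C N 1 = (g : ℤ) - 1)
    {ΘJ : J.left.Modules} (hΘJ : Jac.IsThetaLB fX 0 ψ N ΘJ)
    {M : J.left.Modules} (hM : PicF.IsInvertible M) (hMΘ : ClSub.IsInverseOf M ΘJ) :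
    letI : J.left.Over (Spec (CommRingCat.of k)) := ⟨J.hom⟩
    FGA.intNum k J.left g (fun _ : Fin g => M) (Coh.structureModule J.left) = (Nat.factorial g : ℤ) ∧
    ∀ m : ℕ, 1 ≤ m →
      (∀ i, 1 ≤ i → Subsingleton (Coh.HH J.left (CohB1.tensorPow ΘJ m) i)) ∧
      (∀ i, i ≠ g → Subsingleton (Coh.HH J.left (CohB1.tensorPow M m) i)) ∧
      CurveRR.h k (CohB1.tensorPow ΘJ m) 0 = m ^ g ∧ CurveRR.h k (CohB1.tensorPow M m) g = m ^ g := by
  obtain ⟨σ, j, D, hp, hs, hgi, I, hI, hcl, hL⟩ := exists_theta_data hd hg hg1 ψ hJ hN hNdeg hΘJ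
  haveI := hp
  haveI := hs
  haveI := hgi
  letI : J.left.Over (Spec (CommRingCat.of k)) := ⟨J.hom⟩
  have hgJ : topologicalKrullDim J.left = (g : WithBot ℕ∞) := dim_eq_genus hd D hg hg1
  have hMc : PicGrp.cls M hM = (PicGrp.cls ΘJ hΘJ.1)⁻¹ := eq_inv_of_mul_eq_one_left (by
    obtain ⟨e⟩ := hMΘ
    exact Subtype.ext (Quot.sound ⟨e⟩))
  have hst : ∀ d : (𝟙_ (Over (Spec (CommRingCat.of k)))) ⟶ J, ∀ n : ℕ,
      pull (Jac.transl J d).left (PicGrp.cls ΘJ hΘJ.1 ^ n) = PicGrp.cls ΘJ hΘJ.1 ^ n → d ^ n = 1 := fun d n h => by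
    refine D.cl_injective hd ?_
    have h2 := congrArg (pull (onC j)) h
    rw [onC, pull_pull, ← Over.comp_left, map_pow, map_pow] at h2
    have h3 : pull (onC (j ≫ Jac.transl J d)) (PicGrp.cls ΘJ hΘJ.1) ^ n =
        pull (onC j) (PicGrp.cls ΘJ hΘJ.1) ^ n := h2
    rw [hL, mul_pow, inv_pow, mul_eq_right, inv_eq_one, ← map_pow] at h3
    rw [h3, map_one]
  obtain ⟨hχ, hpow⟩ := cohomology_pow hgJ hΘJ.1 hI hcl (χc_sq_eq_one hd D _ hL hg hg1) hst hM hMc
  refine ⟨?_, hpow⟩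
  have h := AVDeg.intNum_inv_eq_top (k := k) hgJ (PicGrp.cls ΘJ hΘJ.1) M (by
    rw [← hMc]; exact AVDeg.nonempty_rep_iso hM)
  rw [← AVEuler.factorial_mul hgJ, hχ, Int.cast_one, mul_one] at h
  exact_mod_cast h

end Groth.Agent.PicTheta
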